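import Mathlib
import Cfsg.Agent.Spor.FC.Up
import Cfsg.Agent.Spor.FC.U6
import Cfsg.Agent.Gr6B.A

/-!
A set of involutions that is locally the class of transpositions of `Fi₂₂` is a set of
3-transpositions (the argument of `FC/Loc` without the assumption on the full centraliser).
-/

set_option autoImplicit false

namespace Cfsg.Agent.B2E

open Cfsg.Agent.Spor Cfsg.Agent.Spor.TT Cfsg.Agent.Spor.FC

variable {G : Type*} [Group G] {D : Set G} {d e f x y z g t a b c : G}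

/-- The local properties that are used. -/
structure La (D : Set G) : Prop where
  ne : D.Nonempty
  inv : ∀ g, ∀ x ∈ D, cj g x ∈ D
  ord' : ∀ x ∈ D, orderOf x = 2
  hasU : ∀ x ∈ D, HasU (Dx D x)
  tt' : ∀ x ∈ D, IsTT (Dx D x)
  two' : ∀ x ∈ D, ∀ y ∈ Dx D x, x * y ∉ D
  three' : ∀ a b c, Cl3 D a b c → a * b * c ∉ D
  hep : ∀ d ∈ D, ∀ a ∈ Dx D d, ∃ l : List G, l.length = 5 ∧ (∀ y ∈ l, y ∈ Dx (Dx D d) a) ∧
    a * l.prod = d
  ext : ∀ d ∈ D, ∀ c ∈ Dx D d, ∀ a ∈ Dx (Dx D d) c, ∃ f, Cl3 (Dx D d) c a f ∧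
    ∀ p ∈ Dx D d, ∀ q ∈ Dx D d, c * (d * a) * f ≠ p * q
  nb : ∀ d ∈ D, (Dx D d).Nonempty

namespace La

theorem tt (h : La D) (hx : x ∈ D) : IsTT (Dx D x) := h.tt' x hx

theorem ord (h : La D) (hx : x ∈ D) : orderOf x = 2 := h.ord' x hx

theorem sq (h : La D) (hx : x ∈ D) : x * x = 1 := by rw [← pow_two, ← h.ord hx, pow_orderOf_eq_one]

theorem inv_eq (h : La D) (hx : x ∈ D) : x⁻¹ = x := inv_eq_of_mul_eq_one_right (h.sq hx)

theorem mul_self_mul (h : La D) (hx : x ∈ D) (y : G) : x * (x * y) = y := by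
  rw [← mul_assoc, h.sq hx, one_mul]

theorem one_not_mem (h : La D) : 1 ∉ D := fun k => by simpa using h.ord k

theorem two (h : La D) (hx : x ∈ D) (hy : y ∈ D) (hc : Commute x y) : x * y ∉ D := fun m => by
  by_cases e : y = x
  · exact h.one_not_mem (by rwa [e, h.sq hx] at m)
  · exact h.two' x hx y ⟨hy, e, hc⟩ m

theorem three (h : La D) (k : Cl3 D a b c) : a * b * c ∉ D := h.three' a b c k

theorem exists_cl3 (h : La D) (hd : d ∈ D) (ha : a ∈ Dx D d) : ∃ c, Cl3 D d a c := by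
  obtain ⟨l, l1, l2, -⟩ := h.hep d hd a ha
  obtain ⟨b, hb⟩ := List.exists_mem_of_length_pos (l := l) (by omega)
  have hb := l2 b hb
  exact ⟨b, hd, ha.1, hb.1.1, ha.2.1.symm, hb.1.2.1.symm, hb.2.1.symm, ha.2.2, hb.1.2.2, hb.2.2⟩

theorem cube (h : La D) (hf : f ∈ D) (hx : x ∈ D) (hy : y ∈ D) (h1 : Commute f x)
    (h2 : Commute f y) (hn : ¬ Commute x y) : (x * y) ^ 3 = 1 :=
  (h.tt hf).set.cube ⟨hx, fun e => hn (e ▸ h2), h1⟩ ⟨hy, fun e => hn (e ▸ h1.symm), h2⟩ hn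

/-- No product of two members has order four. -/
theorem commute_of_cj (h : La D) (hd : d ∈ D) (he : e ∈ D) (hc : Commute d (cj e d)) :
    Commute e d := by
  by_contra hn
  have ee : ∀ x, cj e (cj e x) = x := fun x => by rw [cj_cj, h.sq he, cj_one]
  have ha : cj e d ∈ Dx D d := ⟨h.inv e d hd, fun k => hn (cj_eq_self_iff.1 k), hc⟩
  have fix : ∀ f ∈ D, Commute f d → cj e f = f → False := fun f hf h1 h2 => by
    have k1 := h.cube hf he hd (cj_eq_self_iff.1 h2).symm h1 hn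
    have k2 : (e * d) ^ 2 = cj e d * d := by rw [cj_def, h.inv_eq he, pow_two, mul_assoc (e * d)]
    have k3 : (e * d) ^ 4 = 1 := by
      rw [show 4 = 2 * 2 from rfl, pow_mul, k2, hc.symm.mul_pow, pow_two, pow_two, h.sq hd,
        h.sq ha.1, one_mul]
    rw [pow_succ, k1, one_mul, mul_eq_one_iff_eq_inv, h.inv_eq hd] at k3
    exact hn (k3 ▸ Commute.refl e)
  obtain ⟨y, k⟩ := h.exists_cl3 hd ha
  have hy : y ∈ Dx D d := ⟨k.mc, k.ac.symm, k.cac⟩
  have hy' : cj e y ∈ Dx D d := ⟨h.inv e y k.mc, fun e' => k.bc (by rw [← e', ee]),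
    by rw [← commute_cj (g := e), ee]; exact k.cbc⟩
  have c1 : Commute (cj e d) (cj e y) := commute_cj.2 k.cac
  by_cases c2 : Commute y (cj e y)
  swap
  · have := (h.tt hd).cj_mem y hy _ hy'
    exact fix _ this.1 this.2.2.symm (by rw [cj_dist, ee, (h.tt hd).set.cj_comm hy hy' c2])
  by_cases c3 : cj e y = y
  · exact fix y k.mc k.cac.symm c3
  have q : ∀ x ∈ D, cj x e = e * (cj e x * x) := fun x hx => by
    rw [cj_def, cj_def, h.inv_eq hx, h.inv_eq he]
    simp only [mul_assoc, h.mul_self_mul he]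
  have q1 : ∀ x ∈ D, Commute x (cj e x) → Commute e (cj e x * x) := fun x _ c =>
    cj_eq_self_iff.1 (by rw [cj_mul, ee, c.eq])
  have q2 : ∀ x ∈ D, cj e x ≠ x → cj e x * x ≠ 1 := fun x hx n k =>
    n (by rw [eq_inv_of_mul_eq_one_left k, h.inv_eq hx])
  have c4 : Commute (cj e d * d) (cj e y * y) :=
    (c1.mul_right k.cbc).mul_left (hy'.2.2.mul_right k.cac)
  refine h.three (a := e) (b := cj d e) (c := cj y e) ⟨he, h.inv _ _ he, h.inv _ _ he, ?_, ?_, ?_,
    ?_, ?_, ?_⟩ ?_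
  · rw [q d hd]; exact fun k => q2 d hd ha.2.1 (mul_eq_left.1 k.symm)
  · rw [q y k.mc]; exact fun l => q2 y k.mc c3 (mul_eq_left.1 l.symm)
  · rw [q d hd, q y k.mc]
    intro l
    refine h.three (a := cj e d) (b := cj e y) (c := y) ⟨ha.1, hy'.1, k.mc,
      fun l => k.ac (cj_inj.1 l), k.bc, c3, c1, k.cbc, c2.symm⟩ ?_
    rw [mul_assoc, ← mul_left_cancel l, h.mul_self_mul ha.1]
    exact hd
  · rw [q d hd]; exact (Commute.refl e).mul_right (q1 d hd hc)
  · rw [q y k.mc]; exact (Commute.refl e).mul_right (q1 y k.mc c2)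
  · rw [q d hd, q y k.mc]
    exact ((Commute.refl e).mul_right (q1 y k.mc c2)).mul_left ((q1 d hd hc).symm.mul_right c4)
  · have : e * cj d e * cj y e = cj d (cj y e) := by
      rw [q y k.mc, cj_mul d, cj_of_commute (hy'.2.2.mul_right k.cac), q d hd, h.mul_self_mul he,
        (q1 d hd hc).symm.left_comm, mul_assoc e]
    rw [this]
    exact h.inv _ _ (h.inv _ _ he)

variable [Finite G]

theorem dih (h : La D) (hx : x ∈ D) (hy : y ∈ D) :
    (∃ k : ℕ, cj ((x * y) ^ k) x = y ∧ (x * y) ^ (2 * k + 1) = 1) ∨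
      ∃ m : ℕ, (x * y) ^ m ≠ 1 ∧ Commute ((x * y) ^ m) x ∧ Commute ((x * y) ^ m) y ∧
        ∃ k l : ℕ, (x * y) ^ m * x = cj ((x * y) ^ k) y ∧ (x * y) ^ m * y = cj ((x * y) ^ l) x := by
  rcases dihedral (h.sq hx) (h.sq hy) with k | ⟨m, k1, -, k3, k4, k5 | ⟨k, rfl⟩⟩
  · exact Or.inl k
  · exact Or.inr ⟨m, k1, k3, k4, k5⟩
  have he : (x * y) ^ k * x ∈ D := by
    rcases Nat.even_or_odd' k with ⟨j, rfl | rfl⟩
    · rw [← (cj_pow_left (h.sq hx) (h.sq hy) j).1]; exact h.inv _ _ hx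
    · have := h.inv ((x * y) ^ (j + 1)) _ hy
      rwa [(cj_pow_left (h.sq hx) (h.sq hy) _).2, mul_add, mul_one, pow_succ _ (2 * j + 1),
        mul_assoc _ (x * y), mul_assoc x, h.sq hy, mul_one] at this
  have e : cj ((x * y) ^ k * x) x = (x * y) ^ (2 * k) * x := by
    rw [← cj_cj, cj_self, (cj_pow_left (h.sq hx) (h.sq hy) k).1]
  have := h.commute_of_cj hx he (e ▸ k3.symm.mul_right (Commute.refl x))
  rw [← cj_eq_self_iff, e, mul_eq_right] at this
  exact absurd this k1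

omit [Finite G] in
theorem eq_of_commute (h : La D) (hd : d ∈ D) (ha : a ∈ Dx D d) (he : e ∈ D)
    (h1 : Commute (d * a) e) (h2 : d * a * e ∈ D) (h3 : Commute d e) : e = d ∨ e = a := by
  by_contra hn
  push Not at hn
  exact h.three ⟨hd, ha.1, he, ha.2.1.symm, hn.1.symm, hn.2.symm, ha.2.2, h3,
    by simpa [h.mul_self_mul hd] using h3.mul_left h1⟩ h2

/-- A product of two commuting members determines its factors. -/
theorem eq_of_mul_mem (h : La D) (hd : d ∈ D) (ha : a ∈ Dx D d) (he : e ∈ D)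
    (h1 : Commute (d * a) e) (h2 : d * a * e ∈ D) : e = d ∨ e = a := by
  refine h.eq_of_commute hd ha he h1 h2 ?_
  have mv : ∀ g x, Commute (d * a) g → Commute (d * a) x → d * a * x ∈ D →
      Commute (d * a) (cj g x) ∧ d * a * cj g x ∈ D := fun g x c1 c2 m =>
    ⟨commute_cj_of_commute c1 c2, by simpa [cj_mul g (d * a), cj_of_commute c1.symm] using h.inv g _ m⟩
  have key : ∀ f ∈ Dx (Dx D d) a, Commute (d * f) e := fun f hf => by
    have c0 : Commute (d * a) f := hf.1.2.2.mul_left hf.2.2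
    have n0 : d * a * f ∉ D := h.three ⟨hd, ha.1, hf.1.1, ha.2.1.symm, hf.1.2.1.symm, hf.2.1.symm,
      ha.2.2, hf.1.2.2, hf.2.2⟩
    have cr : ∀ k : ℕ, Commute (d * a) ((f * e) ^ k) := fun k => (c0.mul_right h1).pow_right k
    rcases h.dih hf.1.1 he with ⟨k, k1, -⟩ | ⟨m, k1, k2, k3, k, -, k4, -⟩
    · have := (mv _ e (cr k).inv_right h1 h2).2
      rw [← cj_eq_iff.1 k1] at this
      exact absurd this n0
    obtain ⟨m1, m2⟩ := mv _ e (cr k) h1 h2
    have m3 := h.inv ((f * e) ^ k) e he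
    rw [← k4] at m1 m2 m3
    have m4 : (f * e) ^ m * f ∈ Dx D f :=
      ⟨m3, fun e => k1 (mul_eq_right.1 e), k2.symm.mul_right (Commute.refl f)⟩
    have m5 := ((h.tt hf.1.1).set.commute_of_commute_mul ⟨hd, hf.1.2.1.symm, hf.1.2.2.symm⟩
      ⟨ha.1, hf.2.1.symm, hf.2.2.symm⟩ m4 ha.2.1.symm m1).1
    have m6 : ∀ x, (f * e) ^ m * f = x → Commute (x * f) e := fun x e => by
      rwa [← e, mul_assoc, h.sq hf.1.1, mul_one]
    rcases h.eq_of_commute hd ha m3 m1 m2 m5 with k5 | k5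
    · exact m6 d k5
    · simpa [mul_assoc, h.mul_self_mul ha.1] using h1.mul_left (m6 a k5)
  obtain ⟨l, l1, l2, l3⟩ := h.hep d hd a ha
  have := prod_map_mul (d := d) (l := a :: l) (by
    simpa using ⟨ha.2.2, fun y hy => (l2 y hy).1.2.2⟩)
  rw [List.prod_cons, l3, List.length_cons, l1, ← pow_succ, show 5 + 1 + 1 = 2 * 3 + 1 from rfl,
    pow_succ, pow_mul, pow_two d, h.sq hd, one_pow, one_mul] at this
  rw [← this]
  exact Commute.list_prod_left _ _ (by simpa using ⟨h1, fun y hy => key y (l2 y hy)⟩)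

theorem commute_or (h : La D) (hx : x ∈ D) (hy : y ∈ D) :
    Commute x y ∨ ∃ k : ℕ, cj ((x * y) ^ k) x = y ∧ (x * y) ^ (2 * k + 1) = 1 := by
  rcases h.dih hx hy with k | ⟨m, k1, k2, k3, k, l, k4, k5⟩
  · exact Or.inr k
  have ha : (x * y) ^ m * x ∈ Dx D x := ⟨k4 ▸ h.inv _ _ hy, fun e => k1 (mul_eq_right.1 e),
    k2.symm.mul_right (Commute.refl x)⟩
  have e : x * ((x * y) ^ m * x) = (x * y) ^ m := by rw [k2.eq, h.mul_self_mul hx]
  rcases h.eq_of_mul_mem hx ha hy (by rwa [e]) (by rw [e, k5]; exact h.inv _ _ hx) with k | k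
  · exact Or.inl (k ▸ Commute.refl y)
  · exact Or.inl (k ▸ ha.2.2)

theorem cj_eq_or (h : La D) (hd : d ∈ D) (ha : a ∈ Dx D d) (hg : Commute g (d * a)) :
    cj g d = d ∨ cj g d = a :=
  h.eq_of_mul_mem hd ha (h.inv g d hd)
    (commute_cj_of_commute hg.symm ((Commute.refl d).mul_left ha.2.2.symm)) (by
      have := h.inv g a ha.1
      rwa [← h.mul_self_mul hd a, ((Commute.refl d).mul_right ha.2.2).eq, cj_mul g (d * a),
        cj_of_commute hg] at this)

theorem commute_of_mul (h : La D) (hd : d ∈ D) (ha : a ∈ Dx D d) (hc : c ∈ D)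
    (hg : Commute c (d * a)) : Commute c d ∧ Commute c a := by
  have : Commute c d := h.commute_of_cj hd hc (by
    rcases h.cj_eq_or hd ha hg with k | k <;> rw [k]
    exact ha.2.2)
  exact ⟨this, by simpa [h.mul_self_mul hd] using this.mul_right hg⟩

theorem cube' (h : La D) (hd : d ∈ D) (he : e ∈ D) (hn : ¬ Commute d e) : (d * e) ^ 3 = 1 := by
  obtain ⟨a, ha⟩ := h.nb d hd
  have tt : d * a * (d * a) = 1 := by
    rw [← pow_two, ha.2.2.mul_pow, pow_two, pow_two, h.sq hd, h.sq ha.1, one_mul]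
  rcases dihedral (h.sq he) tt with ⟨j, k1, -⟩ | ⟨m, k1, k2, k3, k4, ⟨i, j, k5, k6⟩ | ⟨j, rfl⟩⟩
  · exact absurd (k1 ▸ h.inv _ _ he) (h.two hd ha.1 ha.2.2)
  · generalize (e * (d * a)) ^ m = v at *
    have hc : v * (d * a) ∈ D := k6 ▸ h.inv _ _ he
    obtain ⟨c1, c2⟩ := h.commute_of_mul hd ha hc (k4.mul_left (Commute.refl _))
    have ev : v = v * (d * a) * (d * a) := by rw [mul_assoc, tt, mul_one]
    generalize v * (d * a) = c at *
    by_cases cd : c = d
    · rw [cd, h.mul_self_mul hd] at ev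
      exact h.cube ha.1 hd he ha.2.2.symm (ev ▸ k3) hn
    by_cases ca : c = a
    · rw [ca, ha.2.2.symm.left_comm, h.sq ha.1, mul_one] at ev
      exact absurd (ev ▸ k3) hn
    have hc' : c ∈ Dx D d := ⟨hc, cd, c1.symm⟩
    obtain ⟨f, t, tn⟩ := h.ext d hd c hc' a ⟨ha, Ne.symm ca, c2⟩
    have vf : Commute v f := ev ▸ t.cac.mul_left (t.mc.2.2.mul_left t.cbc)
    rcases h.commute_or t.mc.1 he with l | ⟨l, l1, -⟩
    · exact h.cube t.mc.1 hd he t.mc.2.2.symm l hn
    exfalso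
    have e1 : v * f = cj (((f * e) ^ l)⁻¹ * (e * (d * a)) ^ i) (d * a) := by
      rw [← cj_cj, ← k5, cj_mul, cj_of_commute ((vf.mul_right k3).pow_right l).inv_right.symm,
        ← cj_eq_iff.1 l1]
    generalize ((f * e) ^ l)⁻¹ * (e * (d * a)) ^ i = s at e1
    have dv : Commute d v := ev ▸ c1.symm.mul_right ((Commute.refl d).mul_right ha.2.2)
    have hp := h.inv s d hd
    have hq := cj_mem_Dx h.inv s ha
    obtain ⟨p1, p2⟩ := h.commute_of_mul hp hq hd (by rw [← cj_mul, ← e1]; exact dv.mul_right t.mc.2.2)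
    have e2 : c * (d * a) * f = cj s d * cj s a := by rw [← cj_mul, ← e1, ev]
    have e3 : c * a * f = d * (cj s d * cj s a) := by
      rw [← e2, c1.left_comm, mul_assoc d, h.mul_self_mul hd]
    have t3 : c * a * f ∉ D := h.three ⟨hc, ha.1, t.mc.1, t.ab, t.ac, t.bc, t.cab, t.cac, t.cbc⟩
    by_cases q1 : cj s d = d
    · rw [q1, h.mul_self_mul hd] at e3
      exact t3 (e3 ▸ hq.1)
    by_cases q2 : cj s a = d
    · rw [q2, ← p1.eq, h.mul_self_mul hd] at e3
      exact t3 (e3 ▸ hp)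
    exact tn _ ⟨hp, q1, p1⟩ _ ⟨hq.1, q2, p2⟩ e2
  · have he' : (e * (d * a)) ^ (2 * j) * e ∈ Dx D e :=
      ⟨(cj_pow_left (h.sq he) tt j).1 ▸ h.inv _ _ he, fun e => k1 (mul_eq_right.1 e),
        k3.symm.mul_right (Commute.refl e)⟩
    generalize (e * (d * a)) ^ (2 * j) = v at *
    have ev : e * (v * e) = v := by rw [k3.eq, h.mul_self_mul he]
    have v1 : cj v d = a := (h.cj_eq_or hd ha k4).resolve_left fun l =>
      hn (h.commute_of_mul he he' hd (by rw [ev]; exact (cj_eq_self_iff.1 l).symm)).1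
    have v2 : cj (d * a) e = v * e := (h.cj_eq_or he he' (by rw [ev]; exact k4.symm)).resolve_left
      fun l => hn (h.commute_of_mul hd ha he (cj_eq_self_iff.1 l).symm).1.symm
    have iv := inv_eq_of_mul_eq_one_right k2
    have it := inv_eq_of_mul_eq_one_right tt
    have dt : cj d (d * a) = d * a := cj_of_commute ((Commute.refl d).mul_right ha.2.2)
    have w1 : cj d v = d * a * v := by
      rw [← v1, cj_def, cj_def, iv, h.inv_eq hd]
      simp only [mul_assoc, k2, mul_one]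
    have w2 : cj e (d * a) = v * (d * a) := by
      rw [← ev, ← v2, cj_def, cj_def, it, h.inv_eq he]
      simp only [mul_assoc]
      rw [← mul_assoc d a (d * a), tt, mul_one]
    have u1 : cj (d * e) v = d * a * v := by rw [← cj_cj, cj_of_commute k3.symm, w1]
    have u2 : cj (d * e) (d * a) = v := by
      rw [← cj_cj, w2, cj_mul d v, w1, dt, mul_assoc, k4.eq, ← mul_assoc, tt, one_mul]
    have u3 : Commute ((d * e) ^ 3) (d * a) := by
      rw [← cj_eq_self_iff, pow_three, ← cj_cj _ (d * e * (d * e)), ← cj_cj (d * e) (d * e), u2, u1,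
        cj_mul _ (d * a), u2, u1, ← mul_assoc, k4.eq, mul_assoc, k2, mul_one]
    have u4 : (d * e) ^ 12 = 1 := by
      have := h.cj_eq_or hd ha u3
      rw [(cj_pow_left (h.sq hd) (h.sq he) 3).1] at this
      rcases this with l | l
      · rw [show 12 = 2 * 3 * 2 from rfl, pow_mul, mul_eq_right.1 l, one_pow]
      · rw [show 12 = 2 * 3 * 2 from rfl, pow_mul, eq_mul_inv_of_mul_eq l, h.inv_eq hd,
          ← ha.2.2.eq, pow_two, tt]
    obtain ⟨n, -, u5⟩ := (h.commute_or hd he).resolve_left hn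
    have o1 := orderOf_dvd_of_pow_eq_one u4
    have o2 := Odd.of_dvd_nat ⟨n, rfl⟩ (orderOf_dvd_of_pow_eq_one u5)
    exact orderOf_dvd_iff_pow_eq_one.1
      (Nat.Coprime.dvd_of_dvd_mul_left (k := orderOf (d * e)) (n := 3) (m := 2 ^ 2)
        (o2.coprime_two_right.pow_right 2) o1)

theorem isTT (h : La D) : IsTT D :=
  ⟨⟨fun _ => h.ord, fun x hx y hy => by
    by_cases c : Commute x y
    · exact Or.inl (by rw [c.mul_pow, pow_two, pow_two, h.sq hx, h.sq hy, one_mul])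
    · exact Or.inr (h.cube' hx hy c)⟩, fun a _ => h.inv a⟩

theorem fs (h : La D) : Fs D := by
  have hc : ∀ x ∈ D, ∃ C, IsComp D C ∧ x ∈ C := fun x hx =>
    ⟨_, h.isTT.isComp hx fun s hs => by
      obtain ⟨ψ, q⟩ := (h.hasU s (comp_sub hx hs)).qiso
      exact q.red (h.tt (comp_sub hx hs)) fis_tvP.fs.toRed, self_mem_comp _ _⟩
  rcases exists_two_comp hc h.ne with k | ⟨C₁, C₂, h₁, h₂, n12⟩
  · exact k.fs
  · exact (h₁.not_tm22 h.isTT h₂ n12 ((h₂.fs.locally_U (n := 6) (by decide) fun s hs =>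
      h₂.Dx_eq hs ▸ (h.hasU s (h₂.sub hs)).isU).resolve_left (by decide)).2).elim

theorem exists_fi22 (h : La D) (hz : ∀ c ∈ Subgroup.closure D, (∀ x ∈ D, Commute c x) → c = 1) :
    ∃ ψ : Cfsg.Spor.Fi22 →* G, Function.Injective ψ ∧ ψ '' E22 = D := by
  have hF := h.fs.fis
  have hZ : Subgroup.center (Subgroup.closure D) = ⊥ := eq_bot_iff.2 fun c hc =>
    Subtype.ext (hz c c.2 fun x hx => (congrArg Subtype.val
      (Subgroup.mem_center_iff.1 hc ⟨x, Subgroup.subset_closure hx⟩)).symm)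
  have hU : LocU (sub D) := ⟨hF.isTT, fun a ha => (h.hasU a ha).of (image_Dx_sub a ▸
    qiso_of_injective _ (Subgroup.subtype_injective _) (hF.isTT.dx a).cj_mem)⟩
  obtain ⟨e, he⟩ := hF.iso22 hZ hU
  refine ⟨(Subgroup.closure D).subtype.comp e.symm.toMonoidHom,
    (Subgroup.subtype_injective _).comp e.symm.injective, ?_⟩
  rw [MonoidHom.coe_comp, Set.image_comp, show E22 = e '' sub D from he.symm]
  exact (congrArg _ (e.toEquiv.symm_image_image _)).trans (image_sub D)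

end La

end Cfsg.Agent.B2E
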