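import Mathlib
import Cfsg.Agent.B2E.La
import Cfsg.Agent.Pres.HomA

/-!
Local copies of the centraliser of a transposition of `Fi₂₂`, and involutory automorphisms of it.
-/

set_option autoImplicit false

namespace Cfsg.Agent.B2E

open Cfsg.Agent.Spor Cfsg.Agent.Spor.TT Cfsg.Agent.Spor.FC Subgroup

variable {G F : Type*} [Group G] [Group F] {D : Set G} {E : Set F} {a e e' p q w : F} {f : F → G}
  {l : List F} {β : MulAut F}

/-- `f` is an injective homomorphism on the centraliser of `a`. -/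
structure Em (a : F) (f : F → G) : Prop where
  mul : ∀ e e', Commute a e → Commute a e' → f (e * e') = f e * f e'
  inj : ∀ e e', Commute a e → Commute a e' → f e = f e' → e = e'

namespace Em

variable (h : Em a f)
include h

theorem one : f 1 = 1 := by
  have := h.mul 1 1 (Commute.one_right a) (Commute.one_right a)
  rwa [mul_one, left_eq_mul] at this

theorem eq_one (he : Commute a e) : f e = 1 ↔ e = 1 :=
  ⟨fun k => h.inj _ _ he (Commute.one_right a) (k.trans h.one.symm), fun k => k ▸ h.one⟩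

theorem inv (he : Commute a e) : f e⁻¹ = (f e)⁻¹ :=
  eq_inv_of_mul_eq_one_left (by rw [← h.mul _ _ he.inv_right he, inv_mul_cancel, h.one])

theorem cj (he : Commute a e) (he' : Commute a e') : f (cj e e') = TT.cj (f e) (f e') := by
  rw [cj_def, h.mul _ _ (he.mul_right he') he.inv_right, h.mul _ _ he he', h.inv he, cj_def]

theorem commute_iff (he : Commute a e) (he' : Commute a e') :
    Commute (f e) (f e') ↔ Commute e e' :=
  ⟨fun k => h.inj _ _ (he.mul_right he') (he'.mul_right he) (by rw [h.mul _ _ he he', h.mul _ _ he' he, k.eq]),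
    fun k => by rw [Commute, SemiconjBy, ← h.mul _ _ he he', ← h.mul _ _ he' he, k.eq]⟩

theorem prod (hl : ∀ e ∈ l, Commute a e) : f l.prod = (l.map f).prod := by
  induction l with
  | nil => exact h.one
  | cons b l ih =>
    rw [List.prod_cons, List.map_cons, List.prod_cons, ← ih fun e he => hl e (by simp [he]),
      h.mul _ _ (hl b (by simp)) (Commute.list_prod_right _ _ fun e he => hl e (by simp [he]))]

theorem ord (s : IsThreeTranspositionSet E) (he : e ∈ E) (c : Commute a e) : orderOf (f e) = 2 :=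
  orderOf_eq_prime (by rw [pow_two, ← h.mul _ _ c c, s.mul_self he, h.one])
    fun k => s.ne_one he ((h.eq_one c).1 k)

theorem qiso (t : IsTT E) : QIso f (Dx E a) (f '' Dx E a) :=
  ⟨Set.InjOn.bijOn_image fun x hx y hy => h.inj x y hx.2.2 hy.2.2, (t.dx a).cj_mem,
    fun _ hx _ hy => h.cj hx.2.2 hy.2.2⟩

theorem conj (g : G) : Em a fun e => TT.cj g (f e) :=
  ⟨fun e e' c c' => by rw [h.mul e e' c c', cj_mul], fun e e' c c' k => h.inj e e' c c' (cj_inj.1 k)⟩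

end Em

variable [Finite F]

theorem len_one (h : G22 E) (c : CL E l) (h3 : l.length ≤ 3) (k : l.prod ∈ E) : l.length = 1 :=
  h.sep.eq_three h.fis.isTT h3 (by decide) c.cp (cp_one.2 k)

omit [Finite F] in
theorem cl_of_cl3 {b c : F} (k : Cl3 E a b c) : CL E [a, b, c] :=
  cl_cons.2 ⟨k.ma, cl_cons.2 ⟨⟨k.mb, k.ab.symm, k.cab⟩, cl_cons.2
    ⟨⟨⟨k.mc, k.ac.symm, k.cac⟩, k.bc.symm, k.cbc⟩, cl_nil _⟩⟩⟩

theorem three22 (h : G22 E) {b c : F} (k : Cl3 E a b c) : a * b * c ∉ E := fun m =>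
  absurd (len_one h (cl_of_cl3 k) (by simp) (by simpa [mul_assoc] using m)) (by simp)

theorem ext22 (h : G22 E) (ha : a ∈ E) {c b : F} (hc : c ∈ Dx E a) (hb : b ∈ Dx (Dx E a) c) :
    ∃ e, Cl3 (Dx E a) c b e ∧ ∀ p ∈ Dx E a, ∀ q ∈ Dx E a, c * (a * b) * e ≠ p * q := by
  obtain ⟨θ, k⟩ := h.loc a ha
  let j : ∀ x, x ∈ Dx E a → centralizer ({a} : Set F) := fun x hx => ⟨x, mem_cen.2 hx.2.2⟩
  obtain ⟨u, t⟩ := bs_tvP.ext _ (k.mem (j c hc) hc) _ (k.mem (j b hb.1) hb.1)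
    (fun e => hb.2.1 (congrArg Subtype.val (k.inj _ _ hc hb.1 e)).symm)
    ((k.commute_iff h.fis.group _ hb.1).2 hb.2.2)
  obtain ⟨e, he, rfl⟩ := k.sur u t.mc
  refine ⟨e, ⟨hc, hb.1, he, hb.2.1.symm, fun m => t.ac (congrArg θ (Subtype.ext m)),
    fun m => t.bc (congrArg θ (Subtype.ext m)), hb.2.2, (k.commute_iff h.fis.group _ he).1 t.cac,
    (k.commute_iff h.fis.group _ he).1 t.cbc⟩, fun p hp q hq m => ?_⟩
  refine t.ne _ (k.mem (j p hp) hp) _ (k.mem (j q hq) hq) ?_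
  have := congrArg θ (Subtype.ext m : j c hc * (⟨a, mem_cen.2 (Commute.refl a)⟩ * j b hb.1) * e =
    j p hp * j q hq)
  rwa [map_mul, map_mul, map_mul, map_mul, (k.ker ⟨a, _⟩).2 (Or.inr rfl), one_mul] at this

theorem la_of (h : G22 E) (ne : D.Nonempty) (inv : ∀ g, ∀ x ∈ D, cj g x ∈ D)
    (loc : ∀ x ∈ D, ∃ a ∈ E, ∃ f : F → G, Em a f ∧ f a = x ∧ Dx D x = f '' Dx E a) : La D := by
  have tt := h.fis.isTT
  have ord : ∀ x ∈ D, orderOf x = 2 := fun x hx => by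
    obtain ⟨a, ha, f, k, rfl, -⟩ := loc x hx
    exact k.ord tt.set ha (Commute.refl a)
  have sq : ∀ x ∈ D, x * x = 1 := fun x hx => by rw [← pow_two, ← ord x hx, pow_orderOf_eq_one]
  refine ⟨ne, inv, ord, fun x hx => ?_, fun x hx => ?_, fun x hx y hy m => ?_, fun x y z t m => ?_,
    fun d hd y hy => ?_, fun d hd c hc y hy => ?_, fun d hd => ?_⟩
  · obtain ⟨a, ha, f, k, rfl, e⟩ := loc x hx
    exact e ▸ (h.locU.loc a ha).map (k.qiso tt)
  · obtain ⟨a, ha, f, k, rfl, e⟩ := loc x hx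
    exact e ▸ (k.qiso tt).isTT (tt.dx a) fun y hy => ord y (e ▸ hy : y ∈ Dx D (f a)).1
  · obtain ⟨a, ha, f, k, rfl, e⟩ := loc x hx
    have m' : f a * y ∈ Dx D (f a) := ⟨m, fun n => by simpa [mul_eq_left.1 n] using ord y hy.1,
      (Commute.refl _).mul_right hy.2.2⟩
    rw [e] at hy m'
    obtain ⟨b, hb, rfl⟩ := hy
    obtain ⟨c, hc, n⟩ := m'
    rw [← k.mul _ _ (Commute.refl a) hb.2.2] at n
    have := k.inj _ _ hc.2.2 ((Commute.refl a).mul_right hb.2.2) n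
    exact absurd (len_one h (l := [a, b]) (cl_cons.2 ⟨ha, cl_cons.2 ⟨hb, cl_nil _⟩⟩) (by simp)
      (by simpa [← this] using hc.1)) (by simp)
  · obtain ⟨a, ha, f, k, rfl, e⟩ := loc x t.ma
    have hy : y ∈ Dx D (f a) := ⟨t.mb, t.ab.symm, t.cab⟩
    have hz : z ∈ Dx D (f a) := ⟨t.mc, t.ac.symm, t.cac⟩
    have m' : f a * y * z ∈ Dx D (f a) := ⟨m, fun n => t.bc (by
      rw [mul_assoc, mul_eq_left] at n
      rw [← mul_one y, ← sq z t.mc, ← mul_assoc, n, one_mul]),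
      ((Commute.refl _).mul_right t.cab).mul_right t.cac⟩
    rw [e] at hy hz m'
    obtain ⟨b, hb, rfl⟩ := hy
    obtain ⟨c, hc, rfl⟩ := hz
    obtain ⟨u, hu, n⟩ := m'
    have c1 := (Commute.refl a).mul_right hb.2.2
    rw [← k.mul _ _ (Commute.refl a) hb.2.2, ← k.mul _ _ c1 hc.2.2] at n
    exact three22 h ⟨ha, hb.1, hc.1, hb.2.1.symm, hc.2.1.symm, fun n => t.bc (by rw [n]), hb.2.2, hc.2.2,
      (k.commute_iff hb.2.2 hc.2.2).1 t.cbc⟩ (k.inj _ _ hu.2.2 (c1.mul_right hc.2.2) n ▸ hu.1)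
  · obtain ⟨a, ha, f, k, rfl, e⟩ := loc d hd
    rw [e] at hy ⊢
    obtain ⟨b, hb, rfl⟩ := hy
    obtain ⟨-, l, l1, l2, l3⟩ := Gr6B.A22.exists_five h ha hb
    refine ⟨l.map f, by simpa using l2, fun y hy => ?_, ?_⟩
    · obtain ⟨u, hu, rfl⟩ := List.mem_map.1 hy
      exact ((k.qiso tt).dx hb).mem ⟨(l1.mem u hu).1, (l1.mem u hu).2.2⟩
    · rw [← k.prod fun u hu => (l1.mem u hu).1.2.2, l3, ← k.mul _ _ hb.2.2 ((Commute.refl a).mul_right hb.2.2),
        ← hb.2.2.left_comm, tt.set.mul_self hb.1, mul_one]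
  · obtain ⟨a, ha, f, k, rfl, e⟩ := loc d hd
    rw [e] at hy hc ⊢
    obtain ⟨c, hc, rfl⟩ := hc
    obtain ⟨b, hb, rfl⟩ := ((k.qiso tt).dx hc).surj hy
    obtain ⟨u, t, n⟩ := ext22 h ha hc hb
    have q := k.qiso tt
    refine ⟨f u, ⟨q.mem hc, q.mem hb.1, q.mem t.mc, fun m => t.ab ((q.inj hc hb.1).1 m),
      fun m => t.ac ((q.inj hc t.mc).1 m), fun m => t.bc ((q.inj hb.1 t.mc).1 m),
      (q.commute_iff hc hb.1).2 t.cab, (q.commute_iff hc t.mc).2 t.cac,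
      (q.commute_iff hb.1 t.mc).2 t.cbc⟩, ?_⟩
    rintro _ ⟨p, hp, rfl⟩ _ ⟨r, hr, rfl⟩ m
    have c1 := (Commute.refl a).mul_right hb.1.2.2
    have c2 := hc.2.2.mul_right c1
    rw [← k.mul _ _ (Commute.refl a) hb.1.2.2, ← k.mul _ _ hc.2.2 c1, ← k.mul _ _ c2 t.mc.2.2,
      ← k.mul _ _ hp.2.2 hr.2.2] at m
    exact n p hp r hr (k.inj _ _ (c2.mul_right t.mc.2.2) (hp.2.2.mul_right hr.2.2) m)
  · obtain ⟨a, ha, f, -, rfl, e⟩ := loc d hd
    obtain ⟨b, hb⟩ := h.fis.exists_mem_Dx ha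
    exact ⟨f b, e ▸ ⟨b, hb, rfl⟩⟩

omit [Finite F] in
theorem isPGroup_closure {S : Set G} (h1 : ∀ s ∈ S, s * s = 1) (h2 : ∀ s ∈ S, ∀ s' ∈ S, Commute s s') :
    IsPGroup 2 (closure S) := by
  have : ∀ x ∈ closure S, x * x = 1 := fun x hx => by
    induction hx using closure_induction with
    | mem x hx => exact h1 x hx
    | one => exact one_mul 1
    | mul x y hx hy k1 k2 =>
      have c : Commute x y := commute_of_mem_closure (fun s hs =>
        (commute_of_mem_closure (h2 s hs) hx).symm) hy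
      rw [c.symm.mul_mul_mul_comm, k1, k2, one_mul]
    | inv x _ k => rw [← mul_inv_rev, k, inv_one]
  exact fun x => ⟨1, Subtype.ext (by rw [pow_one, pow_two]; exact this x x.2)⟩

/-- A heptad through `a` which lies in a clique with its image. -/
theorem exists_clique (h : G22 E) (ha : a ∈ E) (h1 : β a = a) (h2 : ∀ e ∈ Dx E a, β (β e) = e) :
    ∃ l, CL (Dx E a) l ∧ l.length = 6 ∧ l.prod = a ∧ ∀ e ∈ l, ∀ e' ∈ l, Commute e (β e') := by
  have : Finite (MulAut F) := Finite.of_injective _ (MulEquiv.toEquiv_injective (α := F) (β := F))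
  have : Fact (Nat.Prime 2) := ⟨Nat.prime_two⟩
  have s := h.fis.set
  obtain ⟨b, hb⟩ := h.fis.exists_mem_Dx ha
  obtain ⟨-, l, l1, l2, l3⟩ := Gr6B.A22.exists_five h ha hb
  have c : CL (Dx E a) (b :: l) := cl_cons.2 ⟨hb, Dx_Dx E a b ▸ l1⟩
  obtain ⟨m, ⟨n, rfl⟩, hm⟩ := Pr.exists_odd_pow β
  have pw : ∀ e ∈ Dx E a, (β ^ (2 * n + 1)) e = β e := fun e he => by
    have : ∀ n : ℕ, (β ^ (2 * n)) e = e := fun n => by
      induction n with
      | zero => rfl
      | succ n ih => rw [mul_add, pow_add, MulAut.mul_apply, mul_one, pow_two, MulAut.mul_apply, h2 e he, ih]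
    rw [pow_succ', MulAut.mul_apply, this n]
  let H := MulAction.stabilizer (MulAut F) a
  have le1 : zpowers (β ^ (2 * n + 1)) ≤ H := zpowers_le.2 (pow_mem (show β ∈ H from h1) _)
  have le2 : closure (MulAut.conj '' {x | x ∈ b :: l}) ≤ H := (closure_le _).2 (by
    rintro _ ⟨x, hx, rfl⟩
    exact cj_of_commute (c.mem x hx).2.2.symm)
  have p2 : IsPGroup 2 (closure (MulAut.conj '' {x | x ∈ b :: l})) := isPGroup_closure (by
    rintro _ ⟨x, hx, rfl⟩
    rw [← map_mul, s.mul_self (c.mem x hx).1, map_one]) (by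
    rintro _ ⟨x, hx, rfl⟩ _ ⟨y, hy, rfl⟩
    exact (c.comm x hx y hy).map _)
  obtain ⟨P, hP⟩ := (hm.comap_of_injective H.subtype H.subtype_injective).exists_le_sylow
  obtain ⟨Q, hQ⟩ := (p2.comap_of_injective H.subtype H.subtype_injective).exists_le_sylow
  obtain ⟨γ, rfl⟩ := MulAction.exists_smul_eq H Q P
  have ga : (γ : MulAut F) a = a := γ.2
  have dx : ∀ (δ : MulAut F), δ a = a → ∀ e ∈ Dx E a, δ e ∈ Dx E a := fun δ k e he =>
    k ▸ h.aut_Dx δ he
  let T : Subgroup (MulAut F) := ((γ • Q : Sylow 2 H) : Subgroup H).map H.subtype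
  have pT : IsPGroup 2 T := (γ • Q).2.map _
  have m1 : ∀ x ∈ b :: l, MulAut.conj ((γ : MulAut F) x) ∈ T := fun x hx => by
    have k := subset_closure (k := MulAut.conj '' {x | x ∈ b :: l}) ⟨x, hx, rfl⟩
    refine ⟨γ * ⟨_, le2 k⟩ * γ⁻¹, ?_, S5473.conj_conj _ _⟩
    rw [Sylow.coe_subgroup_smul]
    exact smul_mem_pointwise_smul _ (MulAut.conj γ) _ (hQ k)
  have m2 : β ^ (2 * n + 1) ∈ T := ⟨⟨_, le1 (mem_zpowers _)⟩, hP (mem_zpowers _), rfl⟩
  have cm : ∀ x ∈ E, ∀ y ∈ E, MulAut.conj x ∈ T → MulAut.conj y ∈ T → Commute x y := fun x hx y hy k1 k2 => by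
    by_contra n
    obtain ⟨k, hk⟩ := pT ⟨_, mul_mem k1 k2⟩
    have k3 : (x * y) ^ 2 ^ k = 1 := S5473.conj_inj h (by
      rw [map_pow, map_mul, map_one]; exact congrArg Subtype.val hk)
    have := orderOf_dvd_of_pow_eq_one k3
    rw [s.orderOf_mul_of_not_commute hx hy n] at this
    exact absurd (Nat.prime_three.dvd_of_dvd_pow this) (by norm_num)
  refine ⟨(b :: l).map (γ : MulAut F), c.map (γ : MulAut F).injective.injOn
    (fun x hx => dx _ ga x (c.mem x hx)) fun _ _ _ _ k => k.map _, by simp [l2], ?_, ?_⟩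
  · rw [← map_list_prod, List.prod_cons, l3, ← hb.2.2.left_comm, s.mul_self hb.1, mul_one, ga]
  · refine List.forall_mem_map.2 fun x hx => List.forall_mem_map.2 fun y hy => ?_
    have k := dx _ ga y (c.mem y hy)
    refine cm _ (dx _ ga x (c.mem x hx)).1 _ (dx _ h1 _ k).1 (m1 x hx) ?_
    rw [← pw _ k, ← S5473.conj_conj]
    exact mul_mem (mul_mem m2 (m1 y hy)) (inv_mem m2)

/-- A line of the geometry on `Dx E a`. -/
structure Ln (E : Set F) (a : F) (l : List F) : Prop where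
  cl : CL (Dx E a) l
  len : l.length = 5
  prod : l.prod = a

omit [Finite F] in
theorem Ln.dep (k : Ln E a l) (t : IsTT E) (hp : p ∈ l) (hq : q ∈ l) (n : p ≠ q) (hw : w ∈ E)
    (c0 : Commute a w) (c1 : Commute p w) (c2 : Commute q w) : ∀ x ∈ l, Commute x w := by
  classical
  have hq' : q ∈ l.erase p := (List.mem_erase_of_ne n.symm).2 hq
  have pm : l.Perm (p :: q :: (l.erase p).erase q) :=
    (List.perm_cons_erase hp).trans ((List.perm_cons_erase hq').cons p)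
  obtain ⟨k1, k2⟩ := k.cl.perm pm
  have k3 := (k1.sublist ((List.sublist_cons_self _ _).trans (List.sublist_cons_self _ _))).mono
    fun _ hx => hx.1
  have k4 := k3.commute_of_prod t (by have := pm.length_eq; simp only [List.length_cons, k.len] at this; omega)
    hw (by
      rw [k.prod, List.prod_cons, List.prod_cons, ← inv_mul_eq_iff_eq_mul, ← inv_mul_eq_iff_eq_mul] at k2
      exact k2 ▸ c2.inv_left.mul_left (c1.inv_left.mul_left c0))
  intro x hx
  rcases List.mem_cons.1 (pm.subset hx) with rfl | hx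
  · exact c1
  rcases List.mem_cons.1 hx with rfl | hx
  exacts [c2, k4 x hx]

theorem Ln.uniq (h : G22 E) (ha : a ∈ E) {l' : List F} (k : Ln E a l) (k' : Ln E a l') (hp : p ∈ l)
    (hq : q ∈ l) (hp' : p ∈ l') (hq' : q ∈ l') (n : p ≠ q) : ∀ x ∈ l', x ∈ l := by
  classical
  have mp := k.cl.mem p hp
  have X : ∀ {l}, Ln E a l → p ∈ l → ∀ x ∈ l, x ≠ p → x ∈ Dx E a ∩ Dx E p := fun k hp x hx m =>
    ⟨k.cl.mem x hx, (k.cl.mem x hx).1, m, k.cl.comm p hp x hx⟩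
  obtain ⟨g, r⟩ := (h.quad ha mp).cls q (X k hp q hq n.symm)
  have V : ∀ {l}, Ln E a l → p ∈ l → q ∈ l → ∀ x ∈ l, x ≠ p → x ∈ Finset.univ.image g :=
    fun k hp hq x hx m => by
      obtain ⟨i, e⟩ := (r.iff x).1 ⟨X k hp x hx m, fun w hw =>
        ⟨fun c => k.dep h.fis.isTT hp hx m.symm hw.1.1 hw.1.2.2 hw.2.2.2 c q hq,
          fun c => k.dep h.fis.isTT hp hq n hw.1.1 hw.1.2.2 hw.2.2.2 c x hx⟩⟩
      exact Finset.mem_image.2 ⟨i, Finset.mem_univ _, e⟩
  have e : (l.erase p).toFinset = Finset.univ.image g := Finset.eq_of_subset_of_card_le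
    (fun x hx => by
      have := (k.cl.nd.mem_erase_iff).1 (List.mem_toFinset.1 hx)
      exact V k hp hq x this.2 this.1) (by
      rw [List.toFinset_card_of_nodup (k.cl.nd.erase p), List.length_erase_of_mem hp, k.len]
      exact Finset.card_image_le.trans (by simp))
  intro x hx
  by_cases m : x = p
  · exact m ▸ hp
  · exact List.mem_of_mem_erase (List.mem_toFinset.1 (e ▸ V k' hp' hq' x hx m))

omit [Finite F] in
theorem Ln.of_par {g : Fin 4 → F} (s : IsThreeTranspositionSet E) (he : e ∈ Dx E a)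
    (r : Par (Dx E a ∩ Dx E e) (a * e) p g) : Ln E a (e :: List.ofFn g) := by
  refine ⟨cl_cons.2 ⟨he, Dx_Dx E a e ▸ cl_ofFn r.inj r.mem r.comm⟩, by simp, ?_⟩
  have := r.prod
  simp only [List.prod_cons, List.ofFn_succ, List.ofFn_zero, List.prod_nil, mul_one]
  rw [mul_assoc, mul_assoc] at this
  exact (congrArg (e * ·) this).trans (by rw [← he.2.2.left_comm, s.mul_self he.1, mul_one])

theorem Ln.map (h : G22 E) (k : Ln E a l) (h1 : β a = a) : Ln E a (l.map β) :=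
  ⟨k.cl.map β.injective.injOn (fun x hx => h1 ▸ h.aut_Dx β (k.cl.mem x hx)) fun _ _ _ _ c => c.map _,
    by simp [k.len], by rw [← map_list_prod, k.prod, h1]⟩

/-- A line which lies in a clique with its image and is different from it. -/
theorem exists_line (h : G22 E) (ha : a ∈ E) (h1 : β a = a) (h2 : ∀ e ∈ Dx E a, β (β e) = e) :
    (∃ l, CL (Dx E a) l ∧ l.length = 6 ∧ l.prod = a ∧ ∀ e ∈ l, β e = e) ∨
      ∃ l, Ln E a l ∧ (∀ x ∈ l, ∀ y ∈ l, Commute x (β y)) ∧ ∃ e ∈ l, β e ∉ l := by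
  classical
  obtain ⟨L, L1, L2, L3, L4⟩ := exists_clique h ha h1 h2
  by_cases c : ∀ e ∈ L, β e = e
  · exact Or.inl ⟨L, L1, L2, L3, c⟩
  push Not at c
  obtain ⟨e, he, ne⟩ := c
  have me := L1.mem e he
  have dx : ∀ e ∈ Dx E a, β e ∈ Dx E a := fun e he => h1 ▸ h.aut_Dx β he
  have mb : β e ∈ Dx E a ∩ Dx E e := ⟨dx e me, (dx e me).1, ne, L4 e he e he⟩
  obtain ⟨g', r'⟩ := (h.quad ha me).cls _ mb
  obtain ⟨p, hp, np⟩ : ∃ p ∈ (L.erase e).toFinset, p ∉ Finset.univ.image g' :=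
    Finset.exists_mem_notMem_of_card_lt_card (by
      rw [List.toFinset_card_of_nodup (L1.nd.erase e), List.length_erase_of_mem he, L2]
      exact Finset.card_image_le.trans_lt (by simp))
  obtain ⟨pe, hp⟩ := (L1.nd.mem_erase_iff).1 (List.mem_toFinset.1 hp)
  have mp : p ∈ Dx E a ∩ Dx E e := ⟨L1.mem p hp, (L1.mem p hp).1, pe, L1.comm e he p hp⟩
  obtain ⟨g, r⟩ := (h.quad ha me).cls _ mp
  have k := Ln.of_par h.fis.set me r
  have m1 : e ∈ e :: List.ofFn g := List.mem_cons_self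
  have m2 : p ∈ e :: List.ofFn g := List.mem_cons_of_mem _ (List.mem_ofFn.2 ⟨0, r.zero⟩)
  refine Or.inr ⟨_, k, fun x hx y hy => ?_, e, m1, fun m => ?_⟩
  · refine ((k.map h h1).dep h.fis.isTT (List.mem_map_of_mem m1) (List.mem_map_of_mem m2)
      (β.injective.ne pe.symm) (k.cl.mem x hx).1 (k.cl.mem x hx).2.2 ?_ ?_ _ (List.mem_map_of_mem hy)).symm
    · exact (k.dep h.fis.isTT m1 m2 pe.symm mb.1.1 mb.1.2.2 (L4 e he e he) (L4 p hp e he) x hx).symm
    · exact (k.dep h.fis.isTT m1 m2 pe.symm (dx p mp.1).1 (dx p mp.1).2.2 (L4 e he p hp) (L4 p hp p hp)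
        x hx).symm
  · rcases List.mem_cons.1 m with m | m
    · exact ne m
    · obtain ⟨i, m⟩ := List.mem_ofFn.1 m
      obtain ⟨j, m'⟩ := (r'.iff p).1 ⟨mp, (m ▸ r.vr i).symm⟩
      exact np (Finset.mem_image.2 ⟨j, Finset.mem_univ _, m'⟩)

theorem exists_three (h : G22 E) (ha : a ∈ E) (h1 : β a = a) (k : Ln E a l)
    (c : ∀ x ∈ l, ∀ y ∈ l, Commute x (β y)) (he : e ∈ l) (ne : β e ∉ l) :
    ∃ x ∈ l, ∃ y ∈ l, ∃ z ∈ l, (β x * x ≠ 1 ∧ β y * y ≠ 1 ∧ β z * z ≠ 1) ∧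
      (β x * x * (β y * y) ≠ 1 ∧ β x * x * (β z * z) ≠ 1 ∧ β y * y * (β z * z) ≠ 1) ∧
      β x * x * (β y * y * (β z * z)) ≠ 1 := by
  classical
  have s := h.fis.set
  have mE : ∀ x ∈ l, x ∈ E := fun x hx => (k.cl.mem x hx).1
  have cl : ∀ x ∈ l, β x ∉ l → CL E [β x, x] := fun x hx n => cl_cons.2 ⟨h.aut_mem β (mE x hx),
    cl_cons.2 ⟨⟨mE x hx, fun m => n (m ▸ hx), (c x hx x hx).symm⟩, cl_nil _⟩⟩
  have sq : ∀ x ∈ l, β x ∉ l → β x * x * (β x * x) = 1 := fun x hx n => by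
    simpa using (cl x hx n).mul_self s
  have n1 : ∀ x ∈ l, β x ∉ l → β x * x ≠ 1 := fun x hx n m =>
    n (((s.mul_eq_one_iff (h.aut_mem β (mE x hx))).1 m).symm ▸ hx)
  have n2 : ∀ x ∈ l, β x ∉ l → ∀ y ∈ l, β y ∉ l → x ≠ y → β x * x ≠ β y * y := fun x hx n y hy n' ne m => by
    have := h.sep.subset h.fis.isTT (cl x hx n) (cl y hy n') (by simp) (by simp) (by simpa using m)
      (show y ∈ [β y, y] by simp)
    rcases List.mem_cons.1 this with m | m
    exacts [n (m ▸ hy), ne (List.mem_singleton.1 m).symm]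
  have n3 : ∀ x ∈ l, β x ∉ l → ∀ y ∈ l, β y ∉ l → x ≠ y → β x * x * (β y * y) ≠ 1 :=
    fun x hx n y hy n' ne m => n2 x hx n y hy n' ne (by
      rw [eq_inv_of_mul_eq_one_left m, inv_eq_of_mul_eq_one_right (sq y hy n')])
  have l1 : (l.filter fun x => β x ∈ l).length ≤ 1 := by
    by_contra m
    obtain ⟨p, q, r, m⟩ : ∃ p q r, (l.filter fun x => β x ∈ l) = p :: q :: r := by
      match (l.filter fun x => β x ∈ l), m with
      | [], m => simp at m
      | [_], m => simp at m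
      | p :: q :: r, _ => exact ⟨p, q, r, rfl⟩
    have hp := List.mem_filter.1 (show p ∈ l.filter fun x => β x ∈ l by simp [m])
    have hq := List.mem_filter.1 (show q ∈ l.filter fun x => β x ∈ l by simp [m])
    have pq : p ≠ q := fun e => by simpa [m, e] using k.cl.nd.filter fun x => β x ∈ l
    exact ne (k.uniq h ha (k.map h h1) (by simpa using hp.2) (by simpa using hq.2)
      (List.mem_map_of_mem hp.1) (List.mem_map_of_mem hq.1) (β.injective.ne pq) _ (List.mem_map_of_mem he))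
  have l2 := List.length_eq_length_filter_add (l := l) fun x => decide (β x ∈ l)
  have nd := k.cl.nd.filter fun x => !decide (β x ∈ l)
  have mm : ∀ x ∈ l.filter fun x => !decide (β x ∈ l), x ∈ l ∧ β x ∉ l := fun x hx => by
    simpa using List.mem_filter.1 hx
  rw [k.len] at l2
  generalize (l.filter fun x => !decide (β x ∈ l)) = r at l2 nd mm
  match r, l2, nd, mm with
  | [], l2, _, _ | [_], l2, _, _ | [_, _], l2, _, _ | [_, _, _], l2, _, _ => simp at l2; omega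
  | x :: y :: z :: v :: r, _, nd, mm =>
    obtain ⟨x1, x2⟩ := mm x (by simp)
    obtain ⟨y1, y2⟩ := mm y (by simp)
    obtain ⟨z1, z2⟩ := mm z (by simp)
    obtain ⟨v1, v2⟩ := mm v (by simp)
    simp only [List.nodup_cons, List.mem_cons, not_or] at nd
    by_cases m : β x * x * (β y * y * (β z * z)) = 1
    · refine ⟨x, x1, y, y1, v, v1, ⟨n1 x x1 x2, n1 y y1 y2, n1 v v1 v2⟩, ⟨n3 x x1 x2 y y1 y2 nd.1.1,
        n3 x x1 x2 v v1 v2 nd.1.2.2.1, n3 y y1 y2 v v1 v2 nd.2.1.2.1⟩, fun m' => ?_⟩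
      exact n2 z z1 z2 v v1 v2 nd.2.2.1.1 (mul_left_cancel (mul_left_cancel (m.trans m'.symm)))
    · exact ⟨x, x1, y, y1, z, z1, ⟨n1 x x1 x2, n1 y y1 y2, n1 z z1 z2⟩, ⟨n3 x x1 x2 y y1 y2 nd.1.1,
        n3 x x1 x2 z z1 z2 nd.1.2.1, n3 y y1 y2 z z1 z2 nd.2.1.1⟩, m⟩

/-- An involution `u ∈ D` which induces `β` fixes a heptad. -/
theorem exists_fixed (h : G22 E) (ha : a ∈ E) (h1 : β a = a) (k : Em a f) {u : G} (hu : u ∈ D)
    (uu : u * u = 1) (hβ : ∀ e, Commute a e → f (β e) = u * f e * u)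
    (inv : ∀ e, Commute a e → ∀ v ∈ D, cj (f e) v ∈ D) {N : Subgroup G}
    (idx : ∀ x y, Commute u x → Commute u y → x ∉ N → y ∉ N → x * y ∈ N)
    (three : ∀ x ∈ N, ∀ y ∈ N, Commute u x → Commute u y → Commute x y → u * x ∈ D → u * y ∈ D →
      x ≠ 1 → y ≠ 1 → x * y ≠ 1 → u * (x * y) ∉ D) :
    ∃ l, CL (Dx E a) l ∧ l.length = 6 ∧ l.prod = a ∧ ∀ e ∈ l, β e = e := by
  have cb : ∀ e, Commute a e → Commute a (β e) := fun e c => h1 ▸ c.map β
  have h2 : ∀ e, Commute a e → β (β e) = e := fun e c => k.inj _ _ (cb _ (cb e c)) c (by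
    rw [hβ _ (cb e c), hβ e c]
    calc _ = u * u * f e * (u * u) := by simp only [mul_assoc]
      _ = _ := by rw [uu, one_mul, mul_one])
  refine (exists_line h ha h1 fun e he => h2 e he.2.2).resolve_right ?_
  rintro ⟨l, ln, c, e, he, ne⟩
  obtain ⟨x, hx, y, hy, z, hz, ⟨x1, y1, z1⟩, ⟨xy, xz, yz⟩, xyz⟩ := exists_three h ha h1 ln c he ne
  have ca : ∀ x ∈ l, Commute a x := fun x hx => (ln.cl.mem x hx).2.2
  have cw : ∀ x ∈ l, Commute a (β x * x) := fun x hx => (cb x (ca x hx)).mul_right (ca x hx)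
  have c1 : ∀ x ∈ l, ∀ y ∈ l, Commute x (β y * y) := fun x hx y hy =>
    (c x hx y hy).mul_right (ln.cl.comm x hx y hy)
  have c2 : ∀ x ∈ l, ∀ y ∈ l, Commute (β x * x) (β y * y) := fun x hx y hy =>
    (((ln.cl.comm x hx y hy).map β).mul_right (c y hy x hx).symm).mul_left (c1 x hx y hy)
  have fx : ∀ x ∈ l, β (β x * x) = β x * x := fun x hx => by
    rw [map_mul, h2 x (ca x hx), (c x hx x hx).eq]
  have sq : ∀ x ∈ l, β x * x * (β x * x) = 1 := fun x hx => by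
    have := h.fis.set.mul_self (ln.cl.mem x hx).1
    rw [(c x hx x hx).mul_mul_mul_comm, ← map_mul, this, map_one, one_mul]
  have st : ∀ x ∈ l, ∀ w, Commute a w → Commute x w → u * f w ∈ D → u * f (β x * x * w) ∈ D :=
    fun x hx w c1 c2 m => by
      have := inv x (ca x hx) _ m
      rw [cj_mul, ← k.cj (ca x hx) c1, cj_of_commute c2, cj_def, ← k.inv (ca x hx),
        h.fis.set.inv_eq (ln.cl.mem x hx).1] at this
      rw [k.mul _ _ (cw x hx) c1, k.mul _ _ (cb x (ca x hx)) (ca x hx), hβ x (ca x hx)]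
      simpa only [← mul_assoc, uu, one_mul] using this
  have m1 : ∀ x ∈ l, u * f (β x * x) ∈ D := fun x hx => by
    simpa using st x hx 1 (Commute.one_right _) (Commute.one_right _) (by rwa [k.one, mul_one])
  have m2 : ∀ x ∈ l, ∀ y ∈ l, u * f (β x * x * (β y * y)) ∈ D := fun x hx y hy =>
    st x hx _ (cw y hy) (c1 x hx y hy) (m1 y hy)
  have m3 : u * f (β x * x * (β y * y * (β z * z))) ∈ D :=
    st x hx _ ((cw y hy).mul_right (cw z hz)) ((c1 x hx y hy).mul_right (c1 x hx z hz)) (m2 y hy z hz)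
  have cu : ∀ w, Commute a w → β w = w → Commute u (f w) := fun w c e => by
    have := hβ w c
    rw [e] at this
    rw [Commute, SemiconjBy]
    nth_rewrite 1 [this]
    rw [← mul_assoc, ← mul_assoc, uu, one_mul]
  have key : ∀ p q, Commute a p → Commute a q → β p = p → β q = q → Commute p q → f p ∈ N → f q ∈ N →
      u * f p ∈ D → u * f q ∈ D → u * f (p * q) ∈ D → p ≠ 1 → q ≠ 1 → p * q ≠ 1 → False :=
    fun p q a1 a2 b1 b2 c n1 n2 d1 d2 d3 e1 e2 e3 => three _ n1 _ n2 (cu p a1 b1) (cu q a2 b2)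
      ((k.commute_iff a1 a2).2 c) d1 d2 (mt (k.eq_one a1).1 e1) (mt (k.eq_one a2).1 e2)
      (k.mul _ _ a1 a2 ▸ mt (k.eq_one (a1.mul_right a2)).1 e3) (k.mul _ _ a1 a2 ▸ d3)
  have two : ∀ x ∈ l, ∀ y ∈ l, f (β x * x) ∉ N → f (β y * y) ∉ N → f (β x * x * (β y * y)) ∈ N :=
    fun x hx y hy n1 n2 => k.mul _ _ (cw x hx) (cw y hy) ▸
      idx _ _ (cu _ (cw x hx) (fx x hx)) (cu _ (cw y hy) (fx y hy)) n1 n2
  have fx2 : ∀ x ∈ l, ∀ y ∈ l, β (β x * x * (β y * y)) = β x * x * (β y * y) := fun x hx y hy => by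
    rw [map_mul β (β x * x), fx x hx, fx y hy]
  have cw2 : ∀ x ∈ l, ∀ y ∈ l, Commute a (β x * x * (β y * y)) := fun x hx y hy =>
    (cw x hx).mul_right (cw y hy)
  have k2 : ∀ x ∈ l, ∀ y ∈ l, f (β x * x) ∈ N → f (β y * y) ∈ N → β x * x ≠ 1 → β y * y ≠ 1 →
      β x * x * (β y * y) ≠ 1 → False := fun x hx y hy n1 n2 =>
    key _ _ (cw x hx) (cw y hy) (fx x hx) (fx y hy) (c2 x hx y hy) n1 n2 (m1 x hx) (m1 y hy) (m2 x hx y hy)
  have k3 : ∀ x ∈ l, ∀ y ∈ l, ∀ z ∈ l, f (β x * x) ∈ N → f (β y * y) ∉ N → f (β z * z) ∉ N →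
      u * f (β x * x * (β y * y * (β z * z))) ∈ D → β x * x ≠ 1 → β y * y * (β z * z) ≠ 1 →
      β x * x * (β y * y * (β z * z)) ≠ 1 → False := fun x hx y hy z hz n1 n2 n3 =>
    key _ _ (cw x hx) (cw2 y hy z hz) (fx x hx) (fx2 y hy z hz)
      ((c2 x hx y hy).mul_right (c2 x hx z hz)) n1 (two y hy z hz n2 n3) (m1 x hx) (m2 y hy z hz)
  have e1 := (c2 x hx y hy).left_comm (β z * z)
  have e2 : β x * x * (β y * y * (β z * z)) = β z * z * (β x * x * (β y * y)) := by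
    rw [← mul_assoc (β x * x), ((c2 x hx z hz).mul_left (c2 y hy z hz)).eq]
  have e3 : β x * x * (β y * y) * (β x * x * (β z * z)) = β y * y * (β z * z) := by
    rw [(c2 y hy x hx).mul_mul_mul_comm, sq x hx, one_mul]
  by_cases nx : f (β x * x) ∈ N <;> by_cases ny : f (β y * y) ∈ N <;> by_cases nz : f (β z * z) ∈ N
  · exact k2 x hx y hy nx ny x1 y1 xy
  · exact k2 x hx y hy nx ny x1 y1 xy
  · exact k2 x hx z hz nx nz x1 z1 xz
  · exact k3 x hx y hy z hz nx ny nz m3 x1 yz xyz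
  · exact k2 y hy z hz ny nz y1 z1 yz
  · exact k3 y hy x hx z hz ny nx nz (e1 ▸ m3) y1 xz (e1 ▸ xyz)
  · exact k3 z hz x hx y hy nz nx ny (e2 ▸ m3) z1 xy (e2 ▸ xyz)
  · exact key _ _ (cw2 x hx y hy) (cw2 x hx z hz) (fx2 x hx y hy) (fx2 x hx z hz)
      (((c2 x hx x hx).mul_right (c2 x hx z hz)).mul_left ((c2 y hy x hx).mul_right (c2 y hy z hz)))
      (two x hx y hy nx ny) (two x hx z hz nx nz) (m2 x hx y hy) (m2 x hx z hz) (e3 ▸ m2 y hy z hz)
      xy xz (e3 ▸ yz)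

end Cfsg.Agent.B2E
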