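import Mathlib
import Cfsg.Agent.Gr6B.I
import Cfsg.Agent.Gr6B.P
import Cfsg.Agent.Gr.SubA
import Cfsg.Agent.Gr.T3
import Cfsg.Agent.Gr.Rk.Sext

/-! Square roots of 2-central involutions of `K` which centralise a four-group. -/

set_option autoImplicit false

namespace Cfsg.Agent.B2E

open Subgroup Matrix Cfsg.Agent.Spor Cfsg.Agent.Spor.Leech Cfsg.Agent.Gr Cfsg.Agent.Gr.Rk
  Cfsg.Agent.Gr6B Cfsg.Agent.Gr6B.IB

attribute [local irreducible] ShS Oct Ev

section Abs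

variable {G : Type*} [Group G] {R P : Subgroup G} {z t s u : G}

theorem sq_mul_of_ne (h : ES2 R z) {x y : G} (hx : x ∈ R) (hy : y ∈ R) (n : x * y ≠ y * x) :
    x * y * (x * y) = z * (x * x * (y * y)) := by
  have e := h.aes.eq_of_ne hy hx n.symm
  calc _ = x * (y * x) * y := by simp only [mul_assoc]
    _ = x * z * (x * y * y) := by rw [e]; simp only [mul_assoc]
    _ = _ := by rw [← h.z_comm x hx]; simp only [mul_assoc]

theorem exists_root (h : ES2 R z) {r b : G} (hr : r ∈ R) (hb : b ∈ R) (bb : b * b = 1)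
    (n : r * b ≠ b * r) : ∃ x, (x = r ∨ x = r * b) ∧ x * x = z := by
  rcases h.sq r hr with e | e
  · exact ⟨_, Or.inr rfl, by rw [sq_mul_of_ne h hr hb n, e, bb, mul_one, mul_one]⟩
  · exact ⟨_, Or.inl rfl, e⟩

/-- A quaternion subgroup from two hyperbolic pairs. -/
theorem exists_q8 (h : ES2 R z) (hP : P ≤ R) {r r' b b' : G} (hr : r ∈ P) (hr' : r' ∈ P) (hb : b ∈ P)
    (hb' : b' ∈ P) (bb : b * b = 1) (bb' : b' * b' = 1) (n : r * b ≠ b * r) (n' : r' * b' ≠ b' * r')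
    (c : Commute r' b) (c' : Commute b' b) :
    ∃ x ∈ P, ∃ y ∈ P, x * x = z ∧ y * y = z ∧ x * y * (x * y) = z := by
  obtain ⟨x, x1, x2⟩ := exists_root h (hP hr) (hP hb) bb n
  obtain ⟨y, y1, y2⟩ := exists_root h (hP hr') (hP hb') bb' n'
  have hx : x ∈ P := x1.elim (· ▸ hr) (· ▸ mul_mem hr hb)
  have hy : y ∈ P := y1.elim (· ▸ hr') (· ▸ mul_mem hr' hb')
  have xb : x * b ≠ b * x := x1.elim (· ▸ n) fun e k => n (by
    rw [e, ← mul_assoc b] at k; exact mul_right_cancel k)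
  have yb : Commute y b := y1.elim (· ▸ c) (· ▸ c.mul_left c')
  have key : ∀ y ∈ P, y * y = z → x * y ≠ y * x → x * y * (x * y) = z := fun y hy y2 k => by
    rw [sq_mul_of_ne h (hP hx) (hP hy) k, x2, y2, h.z_sq, mul_one]
  by_cases k : x * y = y * x
  · have y3 : y * b * (y * b) = z := by rw [yb.symm.mul_mul_mul_comm, y2, bb, mul_one]
    refine ⟨x, hx, y * b, mul_mem hy hb, x2, y3, key _ (mul_mem hy hb) y3 fun e => xb ?_⟩
    rw [← mul_assoc, k, mul_assoc, mul_assoc] at e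
    exact mul_left_cancel e
  · exact ⟨x, hx, y, hy, x2, y2, key y hy y2 k⟩

/-- `a` centralises `t, s, u`. -/
def Cm (t s u a : G) : Prop := Commute t a ∧ Commute s a ∧ Commute u a

/-- Every subgroup of index at most two in the centraliser of `t, s, u` has a square root of `u`. -/
def NS (t s u : G) : Prop := ∀ T : Subgroup G,
  (∀ a b, Cm t s u a → Cm t s u b → a ∉ T → b ∉ T → a * b ∈ T) → ∃ l ∈ T, Cm t s u l ∧ l * l = u

theorem cm_conj (g : G) {a : G} :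
    Cm (g * t * g⁻¹) (g * s * g⁻¹) (g * u * g⁻¹) (g * a * g⁻¹) ↔ Cm t s u a :=
  and_congr TT.commute_cj (and_congr TT.commute_cj TT.commute_cj)

theorem NS.conj (h : NS t s u) (g : G) : NS (g * t * g⁻¹) (g * s * g⁻¹) (g * u * g⁻¹) := fun T hT => by
  obtain ⟨l, l1, l2, l3⟩ := h (T.comap (MulAut.conj g).toMonoidHom) fun a b ha hb a1 b1 => by
    have := hT _ _ ((cm_conj g).2 ha) ((cm_conj g).2 hb) a1 b1
    rwa [conj_mul] at this
  exact ⟨_, l1, (cm_conj g).2 l2, by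
    change g * l * g⁻¹ * (g * l * g⁻¹) = _
    rw [conj_mul, l3]⟩

theorem NS.of_conj (g : G) (h : NS (g * t * g⁻¹) (g * s * g⁻¹) (g * u * g⁻¹)) : NS t s u := by
  simpa [mul_assoc] using h.conj g⁻¹

theorem NS.of_iff {t' s' : G} (h : NS t s u) (e : ∀ a, Cm t s u a ↔ Cm t' s' u a) : NS t' s' u :=
  fun T hT => let ⟨l, l1, l2, l3⟩ := h T fun a b ha hb => hT a b ((e a).1 ha) ((e b).1 hb)
  ⟨l, l1, (e l).1 l2, l3⟩

theorem NS.swap (h : NS t s u) : NS s t u := h.of_iff fun _ => and_left_comm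

theorem NS.mul (h : NS (t * s) s u) : NS t s u := h.of_iff fun _ =>
  ⟨fun k => ⟨by simpa using k.1.mul_left k.2.1.inv_left, k.2⟩, fun k => ⟨k.1.mul_left k.2.1, k.2⟩⟩

theorem ns_of_q8 {x y : G} (hx : Cm t s u x) (hy : Cm t s u y) (x2 : x * x = u) (y2 : y * y = u)
    (h : x * y * (x * y) = u) : NS t s u := fun T hT => by
  by_cases a : x ∈ T
  · exact ⟨x, a, hx, x2⟩
  by_cases b : y ∈ T
  · exact ⟨y, b, hy, y2⟩
  exact ⟨_, hT x y hx hy a b, ⟨hx.1.mul_right hy.1, hx.2.1.mul_right hy.2.1,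
    hx.2.2.mul_right hy.2.2⟩, h⟩

end Abs

variable {t s u : K}

theorem tq_QK (e : ZMod 2) (c : LL) : tq e c ∈ QK := mem_QK.2 ⟨_, _, rfl⟩

/-- Large subgroups of `QK` are not elementary abelian. -/
theorem exists_sq_zz {T : Subgroup K} (hT : T ≤ QK) (h : 2 ^ 13 < Nat.card T) :
    ∃ q ∈ T, q * q = zz := by
  by_contra n
  have sq : ∀ q ∈ T, q * q = 1 := fun q hq => (CL.es2.sq q (hT hq)).resolve_right fun e => n ⟨q, hq, e⟩
  have cm : ∀ a ∈ T, ∀ b ∈ T, Commute a b := fun a ha b hb =>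
    Sub.comm_of_sq (sq a ha) (sq b hb) (sq _ (mul_mem ha hb))
  let A := centralizer (QK ⊓ centralizer (T : Set K) : Subgroup K) ⊓ QK
  have h1 : T ≤ A := fun a ha => ⟨fun b hb => (hb.2 a ha).symm, hT ha⟩
  have hz : zz ∈ A := ⟨fun b hb => (CL.es2.z_comm b hb.1).symm, Sub.zz_mem⟩
  let B := T ⊔ zpowers zz
  have h2 : B ≤ QK := sup_le hT (zpowers_le.2 Sub.zz_mem)
  have h3 : B ≤ QK ⊓ centralizer (B : Set K) := le_inf h2 (sup_le (le_centralizer_iff.1
    (sup_le (fun a ha b hb => (cm b hb a ha).eq) (zpowers_le.2 fun b hb => (CL.es2.z_comm b (hT hb)).symm)))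
    (zpowers_le.2 fun b hb => (CL.es2.z_comm b (h2 hb)).symm))
  have h4 := CL.es2.card_mul_card_centralizer h2 (mem_sup_right (mem_zpowers zz))
  have h5 := card_le_of_le h3
  have h6 := card_le_of_le (le_sup_left : T ≤ B)
  rw [card_QK] at h4
  nlinarith

theorem ns_of_card (h : 2 ^ 14 < Nat.card ↥(QK ⊓ centralizer {s} ⊓ centralizer {t})) : NS t s zz :=
  fun T hT => by
  have m : ∀ a ∈ QK ⊓ centralizer {s} ⊓ centralizer {t}, Cm t s zz a := fun a ha =>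
    ⟨TT.mem_cen.1 ha.2, TT.mem_cen.1 ha.1.2, CL.es2.z_comm a ha.1.1⟩
  have := PP.card_le_two_mul (H := T) fun a ha b hb => hT a b (m a ha) (m b hb)
  obtain ⟨q, q1, q2⟩ := exists_sq_zz (T := T ⊓ (QK ⊓ centralizer {s} ⊓ centralizer {t}))
    (fun a ha => ha.2.1.1) (by omega)
  exact ⟨q, q1.1, m q q1.2, q2⟩

theorem card_cen (hs : s ∈ DD) (hz : zz * s = s * zz) : 2 ^ 17 ≤ Nat.card ↥(QK ⊓ centralizer {s}) := by
  by_cases h : s ∈ QK
  · obtain ⟨e, c, rfl⟩ := mem_QK.1 h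
    have := GenH.card_le_two le_rfl e c
    rw [card_QK] at this
    omega
  · exact Sub.card_comm hs hz h

theorem ns_one (hs : s ∈ DD) (hz : zz * s = s * zz) : NS s s zz :=
  ns_of_card (by rw [inf_assoc, inf_idem]; exact (card_cen hs hz).trans_lt' (by norm_num))

theorem ns_two (ht : t ∈ QK) (hs : s ∈ DD) (hz : zz * s = s * zz) : NS t s zz := by
  obtain ⟨e, c, rfl⟩ := mem_QK.1 ht
  have := GenH.card_le_two (L := QK ⊓ centralizer {s}) inf_le_left e c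
  have := card_cen hs hz
  exact ns_of_card (by omega)

/-- The second centre. -/
noncomputable abbrev so : K := tq 1 (om, 0)

theorem shapeT {v : Λ} (hv : nm v = 32) (h : (cls v).2 ⬝ᵥ om = 0) (n : cls v + (om, 0) ∉ ShS) :
    ∃ o ∈ Oct, ∃ d, v = sgC d • twoC o := by
  rcases short_cases hv with ⟨i, j, a, b, hij, rfl⟩ | k | ⟨d, i, rfl⟩
  · refine absurd ?_ n
    rw [cls_v44]
    split_ifs
    · simpa [clC, cd_add_self] using (show (0, sy (e2 i j)) ∈ ShS from clB_mem hij)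
    · simpa [clB] using (show (om, sy (e2 i j)) ∈ ShS from clC_mem hij)
  · exact k
  · rw [cls_sgC_lam, clX_par] at h
    exact absurd h (by decide)

theorem mem_RR_B (e : ZMod 2) (i j : Pt) : tq e (clB i j) ∈ IB.RR := by
  by_cases h : i = j
  · subst h
    rw [show clB i i = 0 from Prod.ext rfl (by rw [clB, e2, wd_add_self, map_zero]; rfl)]
    rcases z2_cases e with rfl | rfl
    · rw [tq_zero]; exact one_mem _
    · exact ⟨_, tq_QK 0 (om, 0), tau_conj_zero⟩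
  · exact mem_map_conj_iff.2 (by simpa using CB.tau_inv_conj e h (Or.inl rfl))

theorem pol_B_oct (i j : Pt) {o : Cd} (ho : o ∈ Oct) (d : Cd) :
    pol (clB i j) (cls (sgC d • twoC o)) = wd o i + wd o j := by
  rw [cls_oct ho, Gr.pol, clB, clT, dotProduct_zero, add_zero, sy_dot, e2_dot, map_add, map_smul, wd_om]
  simp only [Pi.add_apply, Pi.smul_apply, Pi.one_apply]
  generalize q2 (wd d * wd o) • (1 : ZMod 2) = a
  rw [add_add_add_comm, z2_add_self, add_zero]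

theorem sgC_fix {o m : Cd} (h : ∀ p, wd o p = 1 → wd m p = 0) (d : Cd) :
    sgC m • sgC d • twoC o = sgC d • twoC o := Subtype.ext (funext fun p => by
  rw [sgC_apply]
  split_ifs with k
  · have : ¬ wd o p = 1 := fun e => by simp [h p e] at k
    simp [sgC_apply, twoC_apply, this]
  · rfl)

theorem comm_B {r : K} (hr : r ∈ IB.RR) {d : Cd} (a : Ac r (sgC d)) (i j : Pt) :
    r * tq 0 (clB i j) = tq 0 (clB i j) * r ↔ wd d i + wd d j = 0 := by
  obtain ⟨f, hf⟩ := a 0 (clB i j)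
  rw [csm_clB] at hf
  rw [← mul_inv_eq_iff_eq_mul]
  refine ⟨fun e => ?_, fun e => (esRR.aes.conj_eq hr (mem_RR_B 0 i j)).resolve_right fun k => ?_⟩
  · rw [e, tq_inj, left_eq_add, Prod.mk_eq_zero, smul_eq_zero] at hf
    exact hf.2.1.resolve_right om_ne_zero
  · rw [k, tq_mul, e, zero_smul, tq_inj] at hf
    exact om_ne_zero (by simpa [clB] using congrArg Prod.fst hf.2)

section Oct

variable {o o' : Cd} (ho : o ∈ Oct) (ho' : o' ∈ Oct) (h : o + o' ∈ Oct)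
include ho ho' h

theorem exists_meet {a b : Cd} (ha : wd a * T3H.un o o' = 0) (hb : wd b * T3H.un o o' = 0) (a0 : a ≠ 0)
    (b0 : b ≠ 0) : ∃ p, wd a p = 1 ∧ wd b p = 1 := by
  by_contra n
  have e : wd a * wd b = 0 := funext fun p => (z2_cases _).resolve_right fun k => n ⟨p, mul_eq_one.1 k⟩
  have h1 := wt_add (wd a) (wd b)
  have h2 := wt_add (wd a + wd b) (T3H.un o o')
  have h3 := wt_add_one (wd a + wd b + T3H.un o o')
  have h4 := wt_wd a
  have h5 := wt_wd b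
  rw [add_mul, ha, hb, add_zero, wt_zero, T3H.wt_un ho ho' h] at h2
  rw [e, wt_zero] at h1
  have h6 := mt wt_wd_eq_zero.1 a0
  have h7 := mt wt_wd_eq_zero.1 b0
  omega

theorem exists_words : ∃ a b : Cd, wd a * T3H.un o o' = 0 ∧ wd b * T3H.un o o' = 0 ∧ a ≠ 0 ∧ b ≠ 0 ∧
    a ≠ b := by
  have k := T3H.cnt_un ho ho' h (t := 0) (dotProduct_zero _) (dotProduct_zero _)
  rw [Finset.sum_boole, show (4 : ℝ) = (4 : ℕ) by norm_num, Nat.cast_inj] at k
  have := Finset.pred_card_le_card_erase (a := 0) (s := Finset.univ.filter fun d : Cd =>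
    (wd d + 0) * T3H.un o o' = 0)
  rw [k] at this
  obtain ⟨a, ha, b, hb, e⟩ := Finset.one_lt_card.1 (lt_of_lt_of_le (by norm_num) this)
  rw [Finset.mem_erase, Finset.mem_filter, add_zero] at ha hb
  exact ⟨a, b, ha.2.2, hb.2.2, ha.1, hb.1, e⟩

omit ho ho' h in
theorem out_of {a : Cd} (ha : wd a * T3H.un o o' = 0) {p : Pt} (hp : wd a p = 1) :
    wd o p = 0 ∧ wd o' p = 0 := by
  have := congrFun ha p
  simp only [T3H.un, Pi.mul_apply, Pi.add_apply, hp, one_mul, Pi.zero_apply] at this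
  revert this
  generalize wd o p = x, wd o' p = y
  revert x y
  decide

theorem exists_pt2 (x y : ZMod 2) : ∃ i, wd o i = x ∧ wd o' i = y := by
  have w := T3H.wt_inter ho ho' h
  rcases z2_cases x with rfl | rfl <;> rcases z2_cases y with rfl | rfl
  · obtain ⟨a, -, ha, -, a0, -⟩ := exists_words ho ho' h
    obtain ⟨p, hp, -⟩ := exists_meet ho ho' h ha ha a0 a0
    exact ⟨p, out_of ha hp⟩
  · obtain ⟨p, hp⟩ := exists_pt' (δ := wd o') (ε := wd o) (by rw [mul_comm, w, mem_Oct.1 ho']; norm_num)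
    exact ⟨p, hp.symm⟩
  · exact exists_pt' (by rw [w, mem_Oct.1 ho]; norm_num)
  · obtain ⟨p, hp, -⟩ := exists_pt (δ := wd o * wd o') [] (by rw [w]; norm_num)
    exact ⟨p, mul_eq_one.1 hp⟩

theorem exists_r' (e f : ZMod 2) (d d' : Cd) {a : Cd} (ha : wd a * T3H.un o o' = 0) :
    ∃ r ∈ IB.RR, Ac r (sgC a) ∧ Commute (tq e (cls (sgC d • twoC o))) r ∧
      Commute (tq f (cls (sgC d' • twoC o'))) r := by
  obtain ⟨r, hr, -, ar⟩ := exists_r a
  obtain ⟨e', he⟩ := ar e (cls (sgC d • twoC o))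
  obtain ⟨f', hf⟩ := ar f (cls (sgC d' • twoC o'))
  rw [csm_cls, sgC_fix fun p hp => (z2_cases _).resolve_right fun k => by
    simp [(out_of ha k).1] at hp] at he
  rw [csm_cls, sgC_fix fun p hp => (z2_cases _).resolve_right fun k => by
    simp [(out_of ha k).2] at hp] at hf
  obtain ⟨i, hi⟩ := exists_pt2 ho ho' h (e + e') (f + f')
  obtain ⟨j, hj⟩ := exists_pt2 ho ho' h 0 0
  refine ⟨tq 0 (clB i j) * r, mul_mem (mem_RR_B _ _ _) hr, fun x c => ?_, ?_, ?_⟩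
  · obtain ⟨y, hy⟩ := ar x c
    exact ⟨_, by rw [← conj_conj, hy, tq_conj]⟩
  · refine Commute.symm (mul_inv_eq_iff_eq_mul.1 ?_)
    rw [← conj_conj, he, tq_conj, pol_B_oct _ _ ho, hi.1, hj.1, add_zero, add_comm e, ← add_assoc,
      z2_add_self, zero_add]
  · refine Commute.symm (mul_inv_eq_iff_eq_mul.1 ?_)
    rw [← conj_conj, hf, tq_conj, pol_B_oct _ _ ho', hi.2, hj.2, add_zero, add_comm f, ← add_assoc,
      z2_add_self, zero_add]

theorem ns_oct (e f : ZMod 2) (d d' : Cd) :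
    NS (tq e (cls (sgC d • twoC o))) (tq f (cls (sgC d' • twoC o'))) so := by
  obtain ⟨a, b, ha, hb, a0, b0, ab⟩ := exists_words ho ho' h
  have hab : wd (a + b) * T3H.un o o' = 0 := by rw [map_add, add_mul, ha, hb, add_zero]
  have ab0 : a + b ≠ 0 := fun k => ab (cd_eq_of_add k)
  obtain ⟨p, p1, p2⟩ := exists_meet ho ho' h ha hb a0 b0
  obtain ⟨q, q1, q2⟩ := exists_meet ho ho' h hb hab b0 ab0
  obtain ⟨m, m1, m2⟩ := exists_meet ho ho' h ha hab a0 ab0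
  rw [map_add, Pi.add_apply, q1, add_eq_right] at q2
  rw [map_add, Pi.add_apply, m1, add_eq_left] at m2
  obtain ⟨r, r1, r2, r3⟩ := exists_r' ho ho' h e f d d' ha
  obtain ⟨r', s1, s2, s3⟩ := exists_r' ho ho' h e f d d' hb
  let P := IB.RR ⊓ (centralizer {tq e (cls (sgC d • twoC o))} ⊓ centralizer {tq f (cls (sgC d' • twoC o'))})
  have mB : ∀ {i j}, (wd o i = 0 ∧ wd o' i = 0) → (wd o j = 0 ∧ wd o' j = 0) → tq 0 (clB i j) ∈ P :=
    fun {i j} hi hj => ⟨mem_RR_B _ _ _, TT.mem_cen.2 (Commute.symm (tq_comm_iff.2 (by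
      rw [pol_B_oct _ _ ho, hi.1, hj.1, add_zero]))), TT.mem_cen.2 (Commute.symm (tq_comm_iff.2 (by
      rw [pol_B_oct _ _ ho', hi.2, hj.2, add_zero])))⟩
  have sB : ∀ i j, tq 0 (clB i j) * tq 0 (clB i j) = 1 := fun i j => by
    rw [tq_mul_self, (v12_clB i j).qL, tq_zero]
  obtain ⟨x, hx, y, hy, k⟩ := exists_q8 esRR (P := P) inf_le_left
    ⟨r1, TT.mem_cen.2 r3.1, TT.mem_cen.2 r3.2⟩ ⟨s1, TT.mem_cen.2 s3.1, TT.mem_cen.2 s3.2⟩
    (mB (out_of ha p1) (out_of hb q1)) (mB (out_of ha p1) (out_of ha m1)) (sB _ _) (sB _ _)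
    (by rw [Ne, comm_B r1 r2, p1, q2]; decide) (by rw [Ne, comm_B s1 s2, p2, m2]; decide)
    ((comm_B s1 s2 _ _).2 (by rw [p2, q1]; decide)) (tq_comm_iff.2 ((v12_clB _ _).pol (v12_clB _ _)))
  exact ns_of_q8 ⟨TT.mem_cen.1 hx.2.1, TT.mem_cen.1 hx.2.2, esRR.z_comm x hx.1⟩
    ⟨TT.mem_cen.1 hy.2.1, TT.mem_cen.1 hy.2.2, esRR.z_comm y hy.1⟩ k.1 k.2.1 k.2.2

end Oct

theorem ip_disj {o o' : Cd} (h : wd o * wd o' = 0) (d d' : Cd) :
    ip (sgC d • twoC o) (sgC d' • twoC o') = 0 := by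
  rw [ip_def, dotInt]
  refine Finset.sum_eq_zero fun p _ => ?_
  have := congrFun h p
  rw [Pi.mul_apply, Pi.zero_apply, mul_eq_zero] at this
  rw [sgC_apply, sgC_apply, twoC_apply, twoC_apply]
  rcases this with e | e <;> simp [e]

theorem fst_oct {o : Cd} (ho : o ∈ Oct) (d : Cd) : ∃ a : ZMod 2, (cls (sgC d • twoC o)).1 = o + a • om :=
  ⟨_, by rw [cls_oct ho, clT]⟩

theorem add_oct {o o' m : Cd} (ho : o ∈ Oct) (ho' : o' ∈ Oct) (hm : m ∈ Oct) {a b c : ZMod 2}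
    (k : m + c • om = o + a • om + (o' + b • om)) : o + o' ∈ Oct ∨ wd o * wd o' = 0 := by
  rw [add_add_add_comm, ← add_smul, add_smul_om] at k
  rcases k with k | k
  · exact Or.inl (k.1 ▸ hm)
  refine Or.inr ?_
  have h1 := wt_add (wd o) (wd o')
  have h2 := wt_wd_add_om m
  rw [← map_add, k.1, mem_Oct.1 ho, mem_Oct.1 ho'] at h1
  rw [mem_Oct.1 hm] at h2
  exact wt_eq_zero.1 (by omega)

theorem ns_so_T {v w : Λ} (hv : nm v = 32) (hw : nm w = 32) (e f : ZMod 2) (hs : cls v + cls w ∈ ShS)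
    (p1 : (cls v).2 ⬝ᵥ om = 0) (p2 : (cls w).2 ⬝ᵥ om = 0) (n1 : cls v + (om, 0) ∉ ShS)
    (n2 : cls w + (om, 0) ∉ ShS) (n3 : cls v + cls w + (om, 0) ∉ ShS) :
    NS (tq e (cls v)) (tq f (cls w)) so := by
  have h3 := (add_mem_ShS hv hw).1 hs
  obtain ⟨x, hx, ex⟩ := mem_ShS.1 hs
  have p3 : (cls x).2 ⬝ᵥ om = 0 := by rw [ex, Prod.snd_add, add_dotProduct, p1, p2, add_zero]
  rw [← ex] at n3
  obtain ⟨o, ho, d, e1⟩ := shapeT hv p1 n1
  obtain ⟨o', ho', d', e2⟩ := shapeT hw p2 n2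
  obtain ⟨m, hm, d'', e3⟩ := shapeT hx p3 n3
  obtain ⟨a, ha⟩ := fst_oct ho d
  obtain ⟨b, hb⟩ := fst_oct ho' d'
  obtain ⟨c, hc⟩ := fst_oct hm d''
  rw [← e3, ex, Prod.fst_add, e1, e2, ha, hb] at hc
  rw [e1, e2] at h3 ⊢
  refine ns_oct ho ho' ((add_oct ho ho' hm hc.symm).resolve_right fun k => ?_) e f d d'
  rw [ip_disj k] at h3
  omega

theorem ns_tau (ht : so * t ∈ DD) (ht' : t ∈ DD) (hs : s ∈ DD) (c : Commute so s) : NS t s so := by
  have e : tau⁻¹ * so * tau⁻¹⁻¹ = zz := by rw [so, ← tau_conj_zz]; group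
  refine NS.of_conj tau⁻¹ (e ▸ ns_two (Sub.mem_QK_of_zz_mul (conj_mem_DD _ ht') ?_) (conj_mem_DD _ hs) ?_)
  · rw [← e, ← conj_mul']; exact conj_mem_DD _ ht
  · rw [← e, ← conj_mul', ← conj_mul', c.eq]

theorem ns_so (ht : t ∈ DD) (hs : s ∈ DD) (hts : t * s ∈ DD) (tq' : t ∈ QK) (sq' : s ∈ QK)
    (c1 : Commute so t) (c2 : Commute so s) : NS t s so := by
  by_cases a : so * t ∈ DD
  · exact ns_tau a ht hs c2
  by_cases b : so * s ∈ DD
  · exact (ns_tau b hs ht c1).swap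
  by_cases c : so * (t * s) ∈ DD
  · exact (ns_tau c hts hs c2).mul
  obtain ⟨e, v, hv, rfl⟩ := exists_tq ht tq'
  obtain ⟨f, w, hw, rfl⟩ := exists_tq hs sq'
  simp only [tq_mul, tq_mem_DD_iff, add_comm ((om, 0) : LL)] at a b c hts
  exact ns_so_T hv hw e f hts ((pol_om _).symm.trans (tq_comm_iff.1 c1))
    ((pol_om _).symm.trans (tq_comm_iff.1 c2)) a b c

theorem exists_so (hu : u ∈ QK) (uu : u * u = 1) (u1 : u ≠ 1) (uz : u ≠ zz) (hD : u ∉ DD) :
    ∃ g : K, zz * g = g * zz ∧ g * u * g⁻¹ = so := by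
  obtain ⟨e, c, rfl⟩ := mem_QK.1 hu
  obtain ⟨x, rfl⟩ := cls_surjective c
  obtain ⟨v, h1, h2⟩ := MT.exists_short' x
  rw [cls_eq_iff.2 h1] at *
  rcases h2 with rfl | h2 | h2 | h2
  · rw [cls_zero] at u1 uz
    rcases z2_cases e with rfl | rfl
    exacts [absurd tq_zero u1, absurd rfl uz]
  · exact absurd (tq_cls_mem e h2) hD
  · rw [tq_mul_self, qL_cls, qd_eq (n := 3) h2, ← tq_zero, tq_inj] at uu
    exact absurd uu.1 (by decide)
  · obtain ⟨g, hg⟩ := exists_smul_eq_e8 h2 none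
    obtain ⟨γ, rfl, k⟩ := exists_lift_one g (a := cls v) (fun k => by
      have := csm_cls g v
      rw [k, csm_zero, hg, cls_e8] at this
      exact om_ne_zero (congrArg Prod.fst this).symm) (e + 1)
    exact ⟨act γ, zz_comm_act γ, by rw [act_conj, k, csm_cls, hg, cls_e8, ← add_assoc, z2_add_self, zero_add]⟩

theorem ns_QK (hu : u ∈ QK) (uu : u * u = 1) (u1 : u ≠ 1) (hD : u ∉ DD) (c1 : Commute u t0)
    (c2 : Commute u s0) : NS t0 s0 u := by
  by_cases uz : u = zz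
  · exact uz ▸ ns_two t0_mem_QK s0_mem.1 (CL.es2.z_comm _ s0_mem_QK)
  obtain ⟨g, g1, g2⟩ := exists_so hu uu u1 uz hD
  refine NS.of_conj g (g2 ▸ ns_so (conj_mem_DD g t0_mem) (conj_mem_DD g s0_mem.1) ?_
    (conj_mem_QK g1 t0_mem_QK) (conj_mem_QK g1 s0_mem_QK) (g2 ▸ TT.commute_cj.2 c1)
    (g2 ▸ TT.commute_cj.2 c2))
  rw [← conj_mul']
  exact conj_mem_DD g (O1_mul_DD t0_mem s0_mem)

end Cfsg.Agent.B2E
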