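import Mathlib
import Cfsg.Agent.B2E.KA
import Cfsg.Agent.Gr6B.K
import Cfsg.Agent.Gr.E6
import Cfsg.Agent.Gr.GE2
import Cfsg.Agent.Gr.T1
import Cfsg.Agent.Cl.GFSmall
import Cfsg.Agent.S2182

/-! Involutions of the centraliser of the standard four-group. -/

set_option autoImplicit false

namespace Cfsg.Agent.B2E

open Subgroup Matrix Cfsg.Agent.Spor Cfsg.Agent.Spor.Leech Cfsg.Agent.Gr Cfsg.Agent.Gr.Rk
  Cfsg.Agent.Gr6B

attribute [local irreducible] ShS Oct Ev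

variable {k u n a b c d : K}

/-- The standard four-group. -/
def Fo (k : K) : Prop := k = 1 ∨ k = t0 ∨ k = s0 ∨ k = t0 * s0

theorem mem_CE : k ∈ CE ↔ Commute t0 k ∧ Commute s0 k :=
  GenH.mem_cent2.trans (and_congr eq_comm eq_comm)

theorem ts_comm : Commute t0 s0 := O1_comm t0_mem s0_mem

theorem tt0 : t0 * t0 = 1 := DD_mul_self t0_mem

theorem ss0 : s0 * s0 = 1 := DD_mul_self s0_mem.1

theorem Fo.mem_QK (h : Fo k) : k ∈ QK := by
  rcases h with rfl | rfl | rfl | rfl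
  exacts [one_mem _, t0_mem_QK, s0_mem_QK, mul_mem t0_mem_QK s0_mem_QK]

theorem Fo.comm (h : Fo k) (hu : u ∈ CE) : Commute k u := by
  obtain ⟨a, b⟩ := mem_CE.1 hu
  rcases h with rfl | rfl | rfl | rfl
  exacts [Commute.one_left _, a, b, a.mul_left b]

theorem Fo.mem_CE (h : Fo k) : k ∈ CE :=
  B2E.mem_CE.2 ⟨(h.comm tE.2).symm, (h.comm sE.2).symm⟩

theorem Fo.sq (h : Fo k) : k * k = 1 := by
  rcases h with rfl | rfl | rfl | rfl
  exacts [one_mul _, tt0, ss0, DD_mul_self (O1_mul_DD t0_mem s0_mem)]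

theorem fo_coe {x : CE} : Fo x ↔ x = 1 ∨ x = tE ∨ x = sE ∨ x = tE * sE := by
  simp only [Fo, Subtype.ext_iff]; rfl

theorem zz_CE : zz ∈ CE := mem_CE.2 ⟨zz_comm_t0.symm, (CL.es2.z_comm _ s0_mem_QK).symm⟩

theorem y3_CE : y3 ∈ CE := mem_CE.2 ⟨InnB.c_t0.symm, InnB.c_s0.symm⟩

theorem NN_CE (hn : n ∈ NN) : n ∈ CE := mem_CE.2 ⟨O1_comm t0_mem hn.1, O1_comm s0_mem.1 hn.2.1⟩

theorem tq_B_CE (e : ZMod 2) {δ : Wd} : tq e (0, sy δ) ∈ CE := mem_CE.2 ⟨by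
    rw [t0_v1, v1, ← clB_eq_cls]; exact tq_comm_iff.2 (by simp [Gr.pol, clB]), by
    rw [s0_v2, v2, ← clB_eq_cls]; exact tq_comm_iff.2 (by simp [Gr.pol, clB])⟩

theorem six : ∀ m n : Pt, ∃ k, bs k (some 1) + bs k (some 0) + (bs k none + bs k (some 2) +
    (bs k (some 3) + bs k (some 4))) ≠ bs k m + bs k n := by
  decide +kernel

/-- An involution with one member of `DD` in its coset. -/
noncomputable def w2 : K := tq 0 (0, sy (e2 (some 2) (some 3)))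

/-- An involution with no member of `DD` in its coset. -/
noncomputable def w3 : K := tq 0 (0, sy (e2 none (some 2) + e2 (some 3) (some 4)))

theorem w2_spec (h : Fo k) (m : k * w2 ∈ DD) : k = 1 := by
  rcases h with rfl | rfl | rfl | rfl
  · rfl
  all_goals
    exfalso
    first
    | rw [t0_mul_s0] at m
    | rw [t0_v1, v1, ← clB_eq_cls] at m
    | rw [s0_v2, v2, ← clB_eq_cls] at m
    rw [w2, tq_mul, tq_mem_DD_iff, clB, Prod.mk_add_mk, add_zero] at m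
    exact t1_notshort (by decide) (by decide) (by decide) (Or.inl rfl) m

theorem w3_spec (h : Fo k) : k * w3 ∉ DD := fun m => by
  have s : ∀ j : Pt, sy (e2 none j) + sy (e2 none (some 2) + e2 (some 3) (some 4)) =
      sy (e2 (some 2) j) + sy (e2 (some 3) (some 4)) := fun j => by
    rw [← map_add, ← add_assoc, e2_comm, e2_add_e2, map_add]
  rcases h with rfl | rfl | rfl | rfl
  · rw [one_mul, w3, tq_mem_DD_iff, map_add] at m
    exact t1_notshort (by decide) (by decide) (by decide) (Or.inl rfl) m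
  · rw [t0_v1, v1, ← clB_eq_cls, w3, tq_mul, tq_mem_DD_iff, clB, Prod.mk_add_mk, add_zero, s] at m
    exact t1_notshort (by decide) (by decide) (by decide) (Or.inl rfl) m
  · rw [s0_v2, v2, ← clB_eq_cls, w3, tq_mul, tq_mem_DD_iff, clB, Prod.mk_add_mk, add_zero] at m
    obtain ⟨i, j, -, e⟩ := shape_of_fst m (Or.inl rfl) (by
      simp only [← map_add, sy_dot_om, Pi.add_apply, Finset.sum_add_distrib, sum_e2, add_zero])
    obtain ⟨l, hl⟩ := six i j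
    refine hl ?_
    have := congrFun e l
    change _ ⬝ᵥ bs l + _ ⬝ᵥ bs l = _ ⬝ᵥ bs l at this
    simpa only [add_dotProduct, e2_dot] using this
  · rw [t0_mul_s0, w3, tq_mul, tq_mem_DD_iff, clB, Prod.mk_add_mk, add_zero, s] at m
    exact t1_notshort (by decide) (by decide) (by decide) (Or.inl rfl) m

theorem tq_B_sq (e : ZMod 2) (δ : Wd) : tq e (0, sy δ) * tq e (0, sy δ) = 1 := by
  rw [tq_mul_self, qL, dotProduct_zero, tq_zero]

theorem zt_mem : t0 * zz ∈ DD := zz_comm_t0 ▸ zt0_mem.1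

theorem w2_mem : w2 ∈ DD := tq_mem_DD_iff.2 (clB_mem (by decide))

/-- The elements with squares in the four-group. -/
theorem c3' (hk : k ∈ CE) (h : Fo (k * k)) : ∃ g ∈ CE, ∃ e, Fo e ∧ ∃ w ∈ CE, w ∈ QK ∧ w * w = 1 ∧
    k = e * (g * w * g⁻¹) := by
  have := Cl.charP_GF4
  obtain ⟨ψ, hs, ker⟩ := exists_twE6 Cl.card_GF4
  simp only [← fo_coe] at ker
  by_cases h1 : Fo k
  · exact ⟨1, one_mem _, k, h1, 1, one_mem _, one_mem _, one_mul _, by simp⟩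
  have eq : ∀ {x y : CE}, ψ x = ψ y → ∃ e, Fo e ∧ (x : K) = e * y := fun {x y} e =>
    ⟨(x * y⁻¹ : CE), (ker _).1 (by rw [map_mul, e, map_inv, mul_inv_cancel]), by simp⟩
  have cj : ∀ {x y : CE}, IsConj (ψ x) (ψ y) → ∃ g ∈ CE, ∃ e, Fo e ∧ (y : K) = e * (g * x * g⁻¹) :=
    fun {x y} c => by
      obtain ⟨g, hg⟩ := isConj_iff.1 c
      obtain ⟨g, rfl⟩ := hs g
      rw [← map_inv, ← map_mul, ← map_mul] at hg
      exact ⟨g, g.2, eq hg.symm⟩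
  have cj' : ∀ {x y : CE}, IsConj (ψ x) (ψ y) → ∀ e, Fo e → e * (x : K) ∈ DD →
      ∃ g ∈ CE, ∃ f, Fo f ∧ ∀ e, Fo e → e * (x : K) ∈ DD → e * f * y ∈ DD := fun {x y} c e he m => by
    obtain ⟨g, hg, f, hf, k⟩ := cj c
    refine ⟨g, hg, f, hf, fun e he m => ?_⟩
    rw [k, mul_assoc, ← mul_assoc f, hf.sq, one_mul]
    have := conj_mem_DD g m
    rwa [conj_mul', conj_eq_of_comm (he.comm hg).symm] at this
  have fm : ∀ {e f}, Fo e → Fo f → Fo (e * f) := fun {e f} he hf => by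
    have := (ker (⟨e, he.mem_CE⟩ * ⟨f, hf.mem_CE⟩)).1 (by
      rw [map_mul, (ker _).2 he, (ker _).2 hf, one_mul])
    exact this
  have o : ∀ x : CE, Fo (x * x : K) → ¬ Fo x → orderOf (ψ x) = 2 := fun x a b =>
    orderOf_eq_prime (by rw [← map_pow, pow_two]; exact (ker _).2 a) fun e => b ((ker x).1 e)
  let x1 : CE := ⟨zz, zz_CE⟩
  let x2 : CE := ⟨w2, tq_B_CE _⟩
  let x3 : CE := ⟨w3, tq_B_CE _⟩
  have f1 : Fo 1 := Or.inl rfl
  have ft : Fo t0 := Or.inr (Or.inl rfl)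
  have fs : Fo s0 := Or.inr (Or.inr (Or.inl rfl))
  have zs : s0 * zz ∈ DD := by
    rw [s0_v2, tq_mul_zz]; exact tq_cls_mem _ nm_v2
  have o1 := o x1 (Or.inl zz_mul_self) fun e => by
    rcases e with e | e | e | e
    exacts [zz_ne_one e, zz_not_mem_DD (e ▸ t0_mem : (x1 : K) ∈ DD),
      zz_not_mem_DD (e ▸ s0_mem.1 : (x1 : K) ∈ DD),
      zz_not_mem_DD (e ▸ O1_mul_DD t0_mem s0_mem : (x1 : K) ∈ DD)]
  have o2 := o x2 (Or.inl (tq_B_sq _ _)) fun e => by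
    have := w2_spec (fm ft e) (by change t0 * w2 * w2 ∈ DD; rw [mul_assoc, w2, tq_B_sq, mul_one]; exact t0_mem)
    rw [mul_eq_one_iff_eq_inv] at this
    refine DD_ne_one s0_mem.1 (w2_spec fs ?_)
    rw [← DD_inv w2_mem, show w2⁻¹ = t0 from this.symm, ← ts_comm.eq]
    exact O1_mul_DD t0_mem s0_mem
  have o3 := o x3 (Or.inl (tq_B_sq _ _)) fun e => w3_spec (fm ft e) (by
    change t0 * w3 * w3 ∈ DD; rw [mul_assoc, w3, tq_B_sq, mul_one]; exact t0_mem)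
  have n12 : ¬ IsConj (ψ x1) (ψ x2) := fun c => by
    obtain ⟨g, -, f, hf, k⟩ := cj' c _ ft zt_mem
    exact s0_ne (mul_right_cancel ((w2_spec (fm fs hf) (k _ fs zs)).trans
      (w2_spec (fm ft hf) (k _ ft zt_mem)).symm))
  have n13 : ¬ IsConj (ψ x1) (ψ x3) := fun c => by
    obtain ⟨g, -, f, hf, k⟩ := cj' c _ ft zt_mem
    exact w3_spec (fm ft hf) (k _ ft zt_mem)
  have n23 : ¬ IsConj (ψ x2) (ψ x3) := fun c => by
    obtain ⟨g, -, f, hf, k⟩ := cj' c _ f1 (by simpa using w2_mem)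
    exact w3_spec (fm f1 hf) (k _ f1 (by simpa using w2_mem))
  have e := Set.eq_of_subset_of_ncard_le (s := {ConjClasses.mk (ψ x1), ConjClasses.mk (ψ x2),
      ConjClasses.mk (ψ x3)}) (t := ConjClasses.mk '' {g | orderOf g = 2})
    (by rintro _ (rfl | rfl | rfl); exacts [⟨_, o1, rfl⟩, ⟨_, o2, rfl⟩, ⟨_, o3, rfl⟩]) (by
      rw [S2182.result 2 Cl.card_GF4, Set.ncard_eq_three.2 ⟨_, _, _, mt ConjClasses.mk_eq_mk_iff_isConj.1 n12,
        mt ConjClasses.mk_eq_mk_iff_isConj.1 n13, mt ConjClasses.mk_eq_mk_iff_isConj.1 n23, rfl⟩])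
  have m : ConjClasses.mk (ψ ⟨k, hk⟩) ∈ ({ConjClasses.mk (ψ x1), ConjClasses.mk (ψ x2),
      ConjClasses.mk (ψ x3)} : Set _) := e ▸ ⟨_, o ⟨k, hk⟩ h h1, rfl⟩
  rcases m with m | m | m <;> obtain ⟨g, hg, e, he, k⟩ := cj (ConjClasses.mk_eq_mk_iff_isConj.1 m).symm
  exacts [⟨g, hg, e, he, _, x1.2, Sub.zz_mem, zz_mul_self, k⟩,
    ⟨g, hg, e, he, _, x2.2, tq_QK _ _, tq_B_sq _ _, k⟩, ⟨g, hg, e, he, _, x3.2, tq_QK _ _, tq_B_sq _ _, k⟩]

theorem c3_sq (hk : k ∈ CE) (h : Fo (k * k)) : k * k = 1 := by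
  obtain ⟨g, hg, e, he, w, hw, -, ww, rfl⟩ := c3' hk h
  rw [(he.comm (mul_mem (mul_mem hg hw) (inv_mem hg))).symm.mul_mul_mul_comm, he.sq, ← conj_mul', ww]
  simp

theorem ns (hu : u ∈ CE) (uu : u * u = 1) (u1 : u ≠ 1) (hD : u ∉ DD) : NS t0 s0 u := by
  obtain ⟨g, hg, e, he, w, hw, wq, -, k⟩ := c3' hu (Or.inl uu)
  have k' : u = g * (e * w) * g⁻¹ := by rw [k, conj_mul', conj_eq_of_comm (he.comm hg).symm]
  have m := mem_CE.1 (mul_mem he.mem_CE hw)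
  have := (ns_QK (mul_mem he.mem_QK wq) (by
    rw [k', ← conj_mul', conj_eq_one_iff] at uu; exact uu) (fun h => u1 (by rw [k', h]; simp))
    (fun h => hD (k' ▸ conj_mem_DD g h)) m.1.symm m.2.symm).conj g
  rwa [← k', conj_eq_of_comm (mem_CE.1 hg).1.symm, conj_eq_of_comm (mem_CE.1 hg).2.symm] at this

theorem nn_cases (hk : k ∈ DD) (hk' : t0 * k ∈ DD) (c : Commute s0 k) :
    k = s0 ∨ k = t0 * s0 ∨ k ∈ NN ∨ t0 * k ∈ NN := by
  have m := (mem_O1_iff t0_mem).2 ⟨hk, hk'⟩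
  rcases lm_of_comm s0_mem.1 hk c with e | e | e
  · exact Or.inl (eq_of_lm s0_mem.1 hk e).symm
  · by_cases h : k = t0 * s0
    · exact Or.inr (Or.inl h)
    · exact Or.inr (Or.inr (Or.inl ⟨m, ⟨hk, e⟩, h⟩))
  · refine Or.inr (Or.inr (Or.inr ⟨O1_mul t0_mem m, ⟨hk', ?_⟩, fun h => ?_⟩))
    · have := O1_table t0_mem s0_mem m
      rw [lm_mul_left t0_mem s0_mem m, e] at this
      norm_num at this ⊢
      exact this
    · rw [mul_left_cancel h, lm_self s0_mem.1] at e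
      exact one_ne_zero e

theorem not_NN (hn : n ∈ NN) : t0 * n ∉ NN := fun h => InnB.not_mem_O1 hn h.2.1

theorem ts_mul_not (hn : n ∈ NN) : t0 * s0 * n ∉ DD :=
  O2_mul_not_mem (O1_mul_DD t0_mem s0_mem) ⟨hn.1.1, RR_lm t0_mem s0_mem hn⟩

theorem adj_not (ha : a ∈ NN) (hc : c ∈ NN) (h : c ∈ O1 a) : s0 * a * c ∉ DD := fun m => by
  obtain ⟨g, g1, g2, g3⟩ := tri_std s0_mem.1 ha.2.1 hc.2.1 h fun e => ts_mul_not ha (by
    rw [mul_assoc, ← e]; exact O1_mul_DD t0_mem hc.1)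
  have := conj_mem_DD g m
  rw [conj_mul', conj_mul', g1, g2, g3, tri_prod] at this
  exact zz_not_mem_DD this

theorem col_of (hn : n ∈ NN) (hq : n ∈ QK) (h : n ≠ y3) :
    ∃ e w, nm w = 32 ∧ ip v1 w = 16 ∧ ip v2 w = 16 ∧ n = tq e (cls w) := by
  have c := mem_CE.1 (NN_CE hn)
  have c' : Commute y3 n := (c.1.mul_left c.2).mul_left (CL.es2.z_comm n hq)
  rcases lm_of_comm y3_mem hn.1.1 c' with e | e | e
  · exact absurd (eq_of_lm y3_mem hn.1.1 e).symm h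
  · exact absurd hq (Et_not_QK ⟨hn.1, hn.2.1, hn.1.1, e⟩)
  · exact col_y3.1 ⟨hn, e⟩

/-- A pair of collinear points. -/
def Pb (a b : K) : Prop := Commute a b ∧ s0 * a * b ∈ DD ∧ a ≠ b ∧ a ≠ zz * b

theorem Pb.ip {e f : ZMod 2} {v w : Λ} (hv : nm v = 32) (hw : nm w = 32) (ha : tq e (cls v) ∈ NN)
    (hb : tq f (cls w) ∈ NN) (h : Pb (tq e (cls v)) (tq f (cls w))) : ip v w = 0 := by
  rcases lm_of_comm ha.1.1 hb.1.1 h.1 with k | k | k
  · exact absurd (eq_of_lm ha.1.1 hb.1.1 k) h.2.2.1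
  · exact absurd h.2.1 (adj_not ha hb ⟨hb.1.1, k⟩)
  · refine ((lm_tq_iff e f hv hw).2.2.1 k).resolve_right fun m => h.2.2.2 ?_
    rw [zz_mul_tq, m.1, ← GE.z2_ne m.2.symm]

theorem pb (ha : a ∈ NN ∧ a ∈ QK ∧ a ≠ y3) (hb : b ∈ NN ∧ b ∈ QK ∧ b ≠ y3)
    (hc : c ∈ NN ∧ c ∈ QK ∧ c ≠ y3) (hd : d ∈ NN ∧ d ∈ QK ∧ d ≠ y3) (ab : Pb a b) (ac : Pb a c)
    (ad : Pb a d) (bc : Pb b c) (bd : Pb b d) (cd : Pb c d) : False := by
  obtain ⟨_, p, p0, p1, p2, rfl⟩ := col_of ha.1 ha.2.1 ha.2.2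
  obtain ⟨_, q, q0, q1, q2, rfl⟩ := col_of hb.1 hb.2.1 hb.2.2
  obtain ⟨_, r, r0, r1, r2, rfl⟩ := col_of hc.1 hc.2.1 hc.2.2
  obtain ⟨_, s, s0, s1, s2, rfl⟩ := col_of hd.1 hd.2.1 hd.2.2
  have pq := ab.ip p0 q0 ha.1 hb.1
  have pr := ac.ip p0 r0 ha.1 hc.1
  have ps := ad.ip p0 s0 ha.1 hd.1
  have qr := bc.ip q0 r0 hb.1 hc.1
  have qs := bd.ip q0 s0 hb.1 hd.1
  have rs := cd.ip r0 s0 hc.1 hd.1
  have := nm_nonneg (p + q + r + s - (v1 + v2))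
  rw [nm_sub, ip_comm] at this
  simp only [nm_add, ip_add_left, ip_add_right, nm_v1, nm_v2, ip_v1_v2] at this
  omega

end Cfsg.Agent.B2E
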