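import Mathlib
import Cfsg.Agent.B2E.KB
import Cfsg.Agent.Gr6B.CB
import Cfsg.Agent.Gr.Rk.ThmL
import Cfsg.Agent.KFI.SpFC

/-! Involutions of the stabiliser of a short vector on the Leech lattice modulo two. -/

set_option autoImplicit false

namespace Cfsg.Agent.B2E

open Subgroup Matrix Cfsg.Agent.Spor Cfsg.Agent.Spor.Leech Cfsg.Agent.Gr Cfsg.Agent.Gr.Rk
  Cfsg.Agent.Gr6B

attribute [local irreducible] ShS Oct Ev

variable {h : Co0} {o d : Cd}

theorem card_fix_oct (ho : o ∈ Oct) : Nat.card (Fix (sgC o)) ≤ 2 ^ 17 := by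
  classical
  have w := mem_Oct.1 ho
  obtain ⟨i, hi, -⟩ := Rk.exists_pt (δ := wd o) [] (by rw [w]; norm_num)
  obtain ⟨j, hj⟩ := exists_out w
  have m : ∀ y, csm (sgC o) y + y ∈ perp pB (Fix (sgC o)) := fun y =>
    mem_perp_pB.2 fun w hw => Rk.pol_fix hw y
  have m1 : ∀ a : ZMod 2, (a • om, 0) ∈ perp pB (Fix (sgC o)) := fun a => by
    rcases Rk.z2_cases a with rfl | rfl
    · rw [zero_smul]; exact zero_mem _
    · rw [one_smul, ← om_eq w hi hj]; exact m _
  have m2 : ∀ a : ZMod 2, ∀ δ ∈ Ev o, (a • om, sy δ) ∈ perp pB (Fix (sgC o)) := fun a δ hδ => by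
    obtain ⟨e, rfl⟩ := exists_mul_eq ho hδ
    have := add_mem (m (cls (twoC e))) (m1 (q2 (wd e * wd o) + a))
    rwa [csm_cls, cls_sgC_twoC, add_right_comm (cls _), Gr.ll_add_self, zero_add,
      Prod.mk_add_mk, add_zero, ← add_smul, ← add_assoc, z2_add_self, zero_add] at this
  have c1 := Finset.card_le_mul_card_image (f := sy) (Ev o) 2 fun a ha => by
    obtain ⟨δ, hδ, rfl⟩ := Finset.mem_image.1 ha
    refine (Finset.card_le_card (t := {δ, δ + wd o}) fun x hx => ?_).trans Finset.card_le_two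
    rw [Finset.mem_filter] at hx
    simpa using Ev_eq_of_sy ho hδ hx.1 hx.2.symm
  have c2 : (({0, om} : Finset Cd) ×ˢ (Ev o).image sy).card ≤ Nat.card (perp pB (Fix (sgC o))) := by
    rw [← Set.ncard_coe_finset, ← Nat.card_coe_set_eq]
    refine Nat.card_mono (Set.toFinite _) fun x hx => ?_
    obtain ⟨h1, h2⟩ := Finset.mem_product.1 hx
    obtain ⟨δ, hδ, e⟩ := Finset.mem_image.1 h2
    rcases Finset.mem_insert.1 h1 with k | k
    · simpa [← k, e] using m2 0 δ hδ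
    · simpa [← Finset.mem_singleton.1 k, e] using m2 1 δ hδ
  rw [Finset.card_product, Finset.card_pair om_ne_zero.symm] at c2
  rw [card_Ev ho] at c1
  have := card_perp_pB (Fix (sgC o))
  nlinarith

theorem card_fix_dod (hd : wt (wd d) = 12) : Nat.card (Fix (sgC d)) ≤ 2 ^ 17 := by
  classical
  have hd' : wt (wd (d + om)) = 12 := by have := wt_wd_add_om d; omega
  have sub : ∀ e, wd e * wd d = 0 → e = 0 ∨ e = d + om := fun e k => dod_sub hd' (by
    rw [map_add, wd_om, mul_add, k, mul_one, zero_add])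
  have c2 : Nat.card (Fix (sgC d)) ≤ (({0, d + om, d, om} : Finset Cd) ×ˢ (Finset.univ : Finset Cd)).card := by
    rw [← Set.ncard_coe_finset, ← Nat.card_coe_set_eq]
    refine Nat.card_mono (Set.toFinite _) fun x hx => Finset.mem_product.2 ⟨?_, Finset.mem_univ _⟩
    have k := pol_sgC d x
    rw [mem_Fix.1 hx, pol_self, q4_dod hd, one_mul] at k
    have k2 := congrArg Prod.snd (csm_sgC_even k.symm d)
    rw [mem_Fix.1 hx, Gr.ll_add_self, Prod.snd_zero, ← map_zero sy, sy_eq_iff] at k2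
    obtain ⟨e, he⟩ := k2
    rw [zero_add] at he
    rcases dod_sub hd (e := e) (by rw [he, mul_assoc, wd_mul_self]) with rfl | rfl
    · rcases sub _ (he.symm.trans (map_zero _)) with k | k <;> simp [k]
    · rcases sub (x.1 + e) (by rw [map_add, add_mul, ← he, wd_mul_self, wd_add_self]) with k | k
      · simp [cd_eq_of_add k]
      · rw [add_comm e] at k
        simp [add_right_cancel k]
  rw [Finset.card_product, Finset.card_univ, card_Cd] at c2
  have : ({0, d + om, d, om} : Finset Cd).card ≤ 4 := Finset.card_le_four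
  omega

theorem card_fix (hh : h * h = 1) (h1 : h ≠ 1) (h2 : h ≠ negOne) : Nat.card (Fix h) ≤ 2 ^ 17 := by
  obtain ⟨k, d, e⟩ := exists_conj_sgC hh
  rw [← card_cW k]
  refine (AddSubgroup.card_le_of_le (e ▸ cW_le k le_rfl)).trans ?_
  have w := wt_wd_add_om d
  rcases wt_wd d with c | c | c | c | c
  · rw [wt_wd_eq_zero.1 c, sgC_zero, conj_eq_one_iff] at e
    exact absurd e h1
  · exact card_fix_oct (mem_Oct.2 c)
  · exact card_fix_dod c
  · have : Fix (sgC d) = Fix (sgC (d + om)) := AddSubgroup.ext fun c => by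
      rw [mem_Fix, mem_Fix, IB.csm_add_om]
    rw [this]
    exact card_fix_oct (mem_Oct.2 (by omega))
  · rw [wt_wd_eq_24.1 c, sgC_om, mul_inv_eq_iff_eq_mul, ← negOne_comm] at e
    exact absurd (mul_left_cancel e) h2

theorem exists_b (hh : h * h = 1) : ∃ b ∉ ShS, ∀ c, pol c (csm h c) = pol c b := by
  obtain ⟨k, d, e⟩ := exists_conj_sgC hh
  refine ⟨csm k⁻¹ (q4 (wd d) • (om, 0)), fun m => ?_, fun c => ?_⟩
  · rw [csm_mem] at m
    rcases Rk.z2_cases (q4 (wd d)) with a | a <;> rw [a] at m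
    exacts [zero_not_mem_ShS (zero_smul (ZMod 2) ((om, 0) : LL) ▸ m), om_not_short (one_smul (ZMod 2) ((om, 0) : LL) ▸ m)]
  · rw [← pol_csm k, ← csm_conj, e, pol_sgC, ← pol_csm k, ActH.csm_csm_inv, pol_comm, pol_smul_left,
      pol_om]

theorem exists_fix_adj (hh : h * h = 1) (hv : h • v1 = v1) :
    ∃ w, nm w = 32 ∧ ip v1 w = 16 ∧ h • w = w := by
  by_cases h1 : h = 1
  · exact ⟨v2, nm_v2, ip_v1_v2, h1 ▸ one_smul _ _⟩
  obtain ⟨k, d, e⟩ := exists_conj_sgC hh
  have hk : sgC d • k • v1 = k • v1 := by rw [← e, ← mul_smul, inv_mul_cancel_right, mul_smul, hv]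
  have fx : ∀ {i j : Pt} (s t : ℤˣ), wd d i = 0 → wd d j = 0 → sgC d • v44 i j s t = v44 i j s t :=
    fun {i j} s t hi hj => Subtype.ext (funext fun p => by
      rw [sgC_apply]
      split_ifs with q
      · have a : p ≠ i := fun k => by rw [k, hi] at q; exact zero_ne_one q
        have b : p ≠ j := fun k => by rw [k, hj] at q; exact zero_ne_one q
        simp [v44_apply, a, b]
      · rfl)
  suffices ∃ w, nm w = 32 ∧ ip (k • v1) w = 16 ∧ sgC d • w = w by
    obtain ⟨w, w1, w2, w3⟩ := this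
    refine ⟨k⁻¹ • w, by rw [nm_smul, w1], by rw [← ip_smul_left, w2], ?_⟩
    rw [← e, mul_smul, mul_smul, smul_eq_iff_eq_inv_smul] at w3
    exact w3
  rcases KFI.SF.fix_cases (fun c => h1 (by rwa [c, sgC_zero, conj_eq_one_iff] at e))
    (by rw [nm_smul, nm_v1]) hk with ⟨i, j, s, t, ij, hi, hj, c⟩ | ⟨o, ho, m, k1, c⟩
  · have n : wd (d + om) i = 1 := by rw [map_add, wd_om, Pi.add_apply, hi, zero_add, Pi.one_apply]
    have w := wt_wd (d + om)
    have w0 : wt (wd (d + om)) ≠ 0 := fun a => by rw [wt_eq_zero.1 a] at n; exact zero_ne_one n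
    obtain ⟨l, hl, nl⟩ := Rk.exists_pt (δ := wd (d + om)) [i, j] (by simp only [List.length]; omega)
    simp only [List.mem_cons, List.not_mem_nil, or_false, not_or] at nl
    rw [map_add, wd_om, Pi.add_apply, Pi.one_apply, add_eq_right] at hl
    refine ⟨v44 i l s 1, nm_v44 (Ne.symm nl.1) _ _, ?_, fx _ _ hi hl⟩
    rw [c, ip_v44, v44_apply, v44_apply, if_pos rfl, if_neg ij, if_neg nl.1, if_neg nl.2]
    rcases Int.units_eq_one_or s with rfl | rfl <;> simp
  · obtain ⟨i, hi, -⟩ := Rk.exists_pt (δ := wd o) [] (by rw [mem_Oct.1 ho]; norm_num)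
    obtain ⟨j, hj, ji⟩ := Rk.exists_pt (δ := wd o) [i] (by rw [mem_Oct.1 ho]; norm_num)
    have z : ∀ p, wd o p = 1 → wd d p = 0 := fun p hp => by simpa [hp] using congrFun k1 p
    refine ⟨v44 i j (if wd m i = 1 then -1 else 1) (if wd m j = 1 then -1 else 1),
      nm_v44 (fun a => ji (by simp [a])) _ _, ?_, fx _ _ (z i hi) (z j hj)⟩
    rw [c, ip_v44, sgC_apply, sgC_apply, twoC_apply, twoC_apply, if_pos hi, if_pos hj]
    split_ifs <;> simp

/-- Classes fixed modulo `cls v1`. -/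
noncomputable def Fv (h : Co0) : AddSubgroup LL :=
  (adj ⊥ (cls v1)).comap (AddMonoidHom.mk' (fun c => csm h c + c) fun a b => by
    rw [csm_add, add_add_add_comm])

theorem mem_Fv {c : LL} : c ∈ Fv h ↔ csm h c + c = 0 ∨ csm h c + c = cls v1 :=
  or_congr Iff.rfl ⟨ll_eq_of_add, fun e => e ▸ Gr.ll_add_self _⟩

theorem card_adj_le (W : AddSubgroup LL) (x : LL) : Nat.card (adj W x) ≤ 2 * Nat.card W := by
  have e : (adj W x : Set LL) = (W : Set LL) ∪ (· + x) '' W := Set.ext fun y => or_congr Iff.rfl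
    ⟨fun k => ⟨_, k, by simp only [add_assoc, Gr.ll_add_self, add_zero]⟩, by
      rintro ⟨z, k, rfl⟩; simpa only [add_assoc, Gr.ll_add_self, add_zero, SetLike.mem_coe] using k⟩
  change Nat.card (adj W x : Set LL) ≤ 2 * Nat.card (W : Set LL)
  rw [Nat.card_coe_set_eq, Nat.card_coe_set_eq, e, two_mul]
  exact (Set.ncard_union_le _ _).trans (Nat.add_le_add_left (Set.ncard_image_le) _)

theorem card_Fv (hh : h * h = 1) (h1 : h ≠ 1) (hv : h • v1 = v1) : Nat.card (Fv h) ≤ 2 ^ 18 := by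
  have c := card_fix hh h1 fun e => PP.negOne_ne (e ▸ hv)
  by_cases k : ∃ x, csm h x + x = cls v1
  · obtain ⟨x, hx⟩ := k
    refine (AddSubgroup.card_le_of_le (K := adj (Fix h) x) fun y hy => ?_).trans
      ((card_adj_le _ _).trans (by omega))
    refine (mem_Fv.1 hy).imp ll_eq_of_add fun e => ll_eq_of_add ?_
    rw [csm_add, add_add_add_comm, e, hx, Gr.ll_add_self]
  · refine (AddSubgroup.card_le_of_le (K := Fix h) fun y hy => ?_).trans (by omega)
    exact ll_eq_of_add ((mem_Fv.1 hy).resolve_right fun e => k ⟨y, e⟩)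

/-- The classes of a subgroup of `QK`. -/
def Lb (L : Subgroup K) : AddSubgroup LL where
  carrier := {c | ∃ e, tq e c ∈ L}
  zero_mem' := ⟨0, tq_zero ▸ one_mem L⟩
  add_mem' := fun ⟨_, a⟩ ⟨_, b⟩ => ⟨_, tq_mul _ _ _ _ ▸ mul_mem a b⟩
  neg_mem' := fun a => by rwa [Set.mem_setOf_eq, ll_neg]

theorem card_Lb {L : Subgroup K} (hL : L ≤ QK) : Nat.card L ≤ 2 * Nat.card (Lb L) := by
  refine le_of_le_of_eq ?_ ((Nat.card_prod (ZMod 2) (Lb L)).trans (by rw [Nat.card_zmod]))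
  choose e c k using fun q : L => mem_QK.1 (hL q.2)
  refine Nat.card_le_card_of_injective (fun q => (e q, (⟨c q, e q, k q ▸ q.2⟩ : Lb L))) fun q p m => ?_
  exact Subtype.ext ((k q).trans ((congrArg (fun x : ZMod 2 × Lb L => tq x.1 x.2) m).trans (k p).symm))

theorem exists_not_mem {A B : AddSubgroup LL} (c : Nat.card B < Nat.card A) : ∃ a ∈ A, a ∉ B := by
  by_contra! n
  exact absurd (AddSubgroup.card_le_of_le n) (by omega)

/-- Three classes which are independent modulo `Fv h`. -/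
theorem lb2 (hh : h * h = 1) (h1 : h ≠ 1) (hv : h • v1 = v1) {L : Subgroup K} (hL : L ≤ QK)
    (c : 2 ^ 22 ≤ Nat.card L) : ∃ a ∈ Lb L, ∃ b ∈ Lb L, ∃ c ∈ Lb L, (a ∉ Fv h ∧ b ∉ Fv h ∧ c ∉ Fv h) ∧
      (a + b ∉ Fv h ∧ a + c ∉ Fv h ∧ b + c ∉ Fv h) ∧ a + b + c ∉ Fv h := by
  have c1 := card_Lb hL
  have c2 := card_Fv hh h1 hv
  obtain ⟨a, ha, a1⟩ := exists_not_mem (A := Lb L) (B := Fv h) (by omega)
  have c3 := card_adj_le (Fv h) a
  obtain ⟨b, hb, b1⟩ := exists_not_mem (A := Lb L) (B := adj (Fv h) a) (by omega)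
  have c4 := card_adj_le (adj (Fv h) a) b
  obtain ⟨c, hc, c1⟩ := exists_not_mem (A := Lb L) (B := adj (adj (Fv h) a) b) (by omega)
  simp only [mem_adj, not_or] at b1 c1
  exact ⟨a, ha, b, hb, c, hc, ⟨a1, b1.1, c1.1.1⟩, ⟨add_comm a b ▸ b1.2, add_comm a c ▸ c1.1.2,
    add_comm b c ▸ c1.2.1⟩, by rw [add_comm (a + b), add_comm a, ← add_assoc]; exact c1.2.2⟩

theorem exists_sep (W : AddSubgroup LL) {x : LL} (hx : x ∉ W) :
    ∃ p, pol p x = 1 ∧ ∀ w ∈ W, pol p w = 0 := by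
  obtain ⟨φ, k1, k2⟩ := Submodule.exists_dual_map_eq_bot_of_notMem
    (p := AddSubgroup.toZModSubmodule 2 W) (x := x) hx inferInstance
  obtain ⟨p, hp⟩ := exists_pol φ.toAddMonoidHom
  refine ⟨p, (Rk.z2_cases _).resolve_left fun e => k1 ((hp x).symm.trans e), fun w hw => ?_⟩
  have : φ w ∈ (AddSubgroup.toZModSubmodule 2 W).map φ := ⟨w, hw, rfl⟩
  rw [k2] at this
  exact (hp w).trans this

theorem irr_v1 (W : AddSubgroup LL) (hW : ∀ h : Co0, h • v1 = v1 → ∀ c ∈ W, csm h c ∈ W)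
    (h1 : cls v1 ∈ W) {c : LL} (hc : c ∈ W) (p1 : pol c (cls v1) = 0) (n0 : c ≠ 0) (n1 : c ≠ cls v1)
    {d : LL} (q1 : pol d (cls v1) = 0) : d ∈ W := by
  have f2 : ∀ {g : Co0}, g ∈ UU → ∀ c, pol (csm g c) (cls v2) = pol c (cls v2) := fun {g} hg c => by
    rw [← pol_csm g c, csm_cls, hg.2]
  have h2 : cls v2 ∈ W := by
    by_contra h2
    have nc : ¬ TriV.InR c := by
      rintro (e | e | e | e)
      exacts [n0 e, n1 e, h2 (e ▸ hc), h2 ((W.add_mem_cancel_left h1).1 (e ▸ hc))]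
    obtain ⟨g, hg, n⟩ : ∃ g ∈ UU, ¬ TriV.InR (csm g c + c) := by
      by_contra! n
      exact nc (inR_of_fix n)
    simp only [TriV.InR, not_or] at n
    have U := fun d => irr_UU (adj W (cls v2)) (fun h hh x hx => hx.imp (hW h hh.1 x) fun k => by
        have := hW h hh.1 _ k
        rwa [csm_add, csm_cls, hh.2] at this)
      (Or.inl h1) (Or.inr (by rw [Gr.ll_add_self]; exact zero_mem W))
      (Or.inl (add_mem (hW g hg.1 c hc) hc)) (by rw [pol_add_left, Gr6B.pol_fix hg.1, z2_add_self])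
      (by rw [pol_add_left, f2 hg, z2_add_self]) n.1 n.2.1 n.2.2.1 n.2.2.2 (d := d)
    obtain ⟨p, k1, k2⟩ := exists_sep W h2
    have ip : TriV.InR p := inR_of_fix fun g hg => mem_span_of_pol fun x x1 x2 => by
      have i := UU.inv_mem hg
      rw [pol_add_right, ← pol_csm g⁻¹, ActH.csm_inv_csm, pol_comm, pol_comm x]
      rcases U x x1 x2 with e | e
      · rw [k2 _ (hW _ i.1 x e), k2 x e, add_zero]
      · have e1 := k2 _ e
        have e2 := k2 _ (hW _ i.1 _ e)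
        rw [csm_add, csm_cls, i.2] at e2
        rw [pol_add_right, k1] at e1 e2
        rw [z2_eq_of_add e1, z2_eq_of_add e2, z2_add_self]
    exact zero_ne_one ((ip.pol p21 (pol_self _)).symm.trans k1)
  have tr : ∀ w, nm w = 32 → ip v1 w = 16 → cls w ∈ W := fun w hw k => by
    obtain ⟨g, g1, g2⟩ := trans_pair nm_v1 nm_v2 nm_v1 hw (ip_v1_v2.trans k.symm)
    exact g2 ▸ csm_cls g v2 ▸ hW g g1 _ h2
  have U := fun d => irr_UU W (fun h hh => hW h hh.1) h1 h2 (c := clB (some 2) (some 0))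
    (by rw [clB_eq_cls]; exact tr _ (nm_v44 (by decide) _ _) (by rw [ip_comm, TriV.ip_v1, v44_apply, v44_apply]; decide))
    (by rw [v1, ← clB_eq_cls]; exact (v12_clB _ _).pol (v12_clB _ _))
    (by rw [v2, ← clB_eq_cls]; exact (v12_clB _ _).pol (v12_clB _ _))
    (fun e => zero_not_mem_ShS (e ▸ clB_mem (by decide)))
    (by rw [v1, ← clB_eq_cls, Ne, clB_eq_iff (by decide) (by decide)]; decide)
    (by rw [v2, ← clB_eq_cls, Ne, clB_eq_iff (by decide) (by decide)]; decide)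
    (by rw [← cls_sub, cls_v3, Ne, clB_eq_iff (by decide) (by decide)]; decide) (d := d)
  rcases Rk.z2_cases (pol d (cls v2)) with q2 | q2
  · exact U d q1 q2
  obtain ⟨w, hw⟩ := Finset.card_pos.1 (lt_of_lt_of_eq (by norm_num) (card_5632 nm_v1 nm_v2 ip_v1_v2).symm)
  obtain ⟨w0, w1, w2⟩ := Finset.mem_filter.1 hw
  obtain ⟨w', a, b, e⟩ := GenH.exists_sign (mem_Min.1 w0) w1
  have a1 : pol (cls w) (cls v1) = 0 := by
    rw [e, pol_comm, GE.pol_of_ip (m := 2) b]; rfl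
  have a2 : pol (cls w) (cls v2) = 1 := by
    rcases w2 with k | k
    · rw [pol_comm, GE.pol_of_ip (m := 1) k]; rfl
    · rw [pol_comm, GE.pol_of_ip (m := -1) k]; rfl
  exact (W.add_mem_cancel_right (e ▸ tr w' a b : cls w ∈ W)).1
    (U _ (by rw [pol_add_left, q1, a1, add_zero]) (by rw [pol_add_left, q2, a2, z2_add_self]))

end Cfsg.Agent.B2E
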