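import Mathlib
import Cfsg.Agent.B2E.KC
import Cfsg.Agent.Ch.Multiplier
import Cfsg.Agent.Ch.UniversalCover
import Cfsg.Agent.Spor.MX.Sect
import Cfsg.Agent.Spor.LyR.Dbl
import Cfsg.Agent.Fus.FactorSat
import Cfsg.Agent.S2109
import Cfsg.Agent.S2130

/-! Coordinates for the centraliser `2.²E₆(2).2` of an involution. -/

set_option autoImplicit false

namespace Cfsg.Agent.B2E

open Subgroup Cfsg.Agent.Spor Cfsg.Agent.Gr Cfsg.Agent.Gr6B

variable {G : Type*} [Group G] {t : G} {φ : CE →* G} {g n : K}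

/-- The elements of `C(t0)` which normalise the four-group. -/
def N1 (n : K) : Prop := Commute t0 n ∧ (n * s0 * n⁻¹ = s0 ∨ n * s0 * n⁻¹ = t0 * s0)

/-- `c` acts on the image of `φ` as `n`. -/
def As (φ : CE →* G) (c : G) (n : K) : Prop :=
  ∀ k k' : CE, (k' : K) = n * k * n⁻¹ → c * φ k * c⁻¹ = φ k'

/-- The centraliser of `t` is described by `φ`. -/
structure St (t : G) (φ : CE →* G) : Prop where
  ker : ∀ k, φ k = 1 ↔ (k : K) = 1 ∨ (k : K) = t0
  map_s : φ sE = t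
  ind : ∀ c, Commute t c → ∃ n, N1 n ∧ As φ c n
  cen : ∀ c, Commute t c → (∀ k, Commute c (φ k)) → c = 1 ∨ c = t
  idx : ∀ a b, Commute t a → Commute t b → a ∉ φ.range → b ∉ φ.range → a * b ∈ φ.range

theorem mem_norm (h1 : Fo (g * t0 * g⁻¹)) (h2 : Fo (g * s0 * g⁻¹)) : g ∈ normalizer (CE : Set K) := by
  refine inv_mem_iff.1 (mem_normalizer_fintype fun k hk => mem_CE.2 ⟨?_, ?_⟩)
  · simpa [mul_assoc, TT.cj_def] using (TT.commute_cj (g := g⁻¹)).2 (h1.comm hk)
  · simpa [mul_assoc, TT.cj_def] using (TT.commute_cj (g := g⁻¹)).2 (h2.comm hk)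

theorem N1.norm (h : N1 n) : n ∈ normalizer (CE : Set K) :=
  mem_norm (Or.inr (Or.inl (conj_eq_of_comm h.1.symm))) (Or.inr (Or.inr h.2))

theorem N1.mem (h : N1 n) (k : CE) : n * k * n⁻¹ ∈ CE := (mem_normalizer_iff.1 h.norm k).1 k.2

theorem exists_n3 : ∃ g : K, g * t0 * g⁻¹ = s0 ∧ g * s0 * g⁻¹ = t0 * s0 := by
  obtain ⟨g, g1, g2⟩ := O1_std0 (O1_mul_DD t0_mem s0_mem) (O1_symm t0_mem (O1_mul t0_mem s0_mem))
  refine ⟨g, g2, ?_⟩
  rw [← DD_mul_cancel t0_mem s0, conj_mul', g1, g2, DD_mul_cancel t0_mem, ts_comm.eq]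

theorem exists_n2 : ∃ g : K, Commute t0 g ∧ g * s0 * g⁻¹ = t0 * s0 :=
  let ⟨g, g1, g2⟩ := O1_trans t0_mem s0_mem (O1_mul t0_mem s0_mem); ⟨g, g1.symm, g2⟩

theorem ts_ne : t0 * s0 ≠ s0 := fun e => DD_ne_one t0_mem (mul_eq_right.1 e)

theorem six_dvd : 6 ∣ CE.relIndex (normalizer (CE : Set K)) := by
  have key : ∀ (p : ℕ) [Fact p.Prime] (g : K), g ∈ normalizer (CE : Set K) → g ^ p ∈ CE → g ∉ CE →
      p ∣ CE.relIndex (normalizer (CE : Set K)) := fun p _ g h h1 h2 => by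
    have : orderOf ((⟨g, h⟩ : normalizer (CE : Set K)) : normalizer (CE : Set K) ⧸ CE.subgroupOf (normalizer (CE : Set K))) = p :=
      orderOf_eq_prime (by rw [← QuotientGroup.mk_pow, QuotientGroup.eq_one_iff]; exact h1)
        (by rwa [Ne, QuotientGroup.eq_one_iff])
    exact this ▸ orderOf_dvd_natCard _
  have := Fact.mk Nat.prime_three
  obtain ⟨a, a1, a2⟩ := exists_n2
  obtain ⟨b, b1, b2⟩ := exists_n3
  have b3 : b * (t0 * s0) * b⁻¹ = t0 := by
    rw [conj_mul', b1, b2, ts_comm.eq, DD_mul_cancel s0_mem.1]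
  refine (by norm_num : Nat.Coprime 2 3).mul_dvd_of_dvd_of_dvd
    (key 2 a (N1.norm ⟨a1, Or.inr a2⟩) (mem_CE.2 ⟨a1.pow_right 2, Commute.symm ?_⟩) fun m => ?_)
    (key 3 b (mem_norm (Or.inr (Or.inr (Or.inl b1))) (Or.inr (Or.inr (Or.inr b2))))
      (mem_CE.2 ⟨Commute.symm ?_, Commute.symm ?_⟩) fun m => ?_)
  · refine mul_inv_eq_iff_eq_mul.1 ?_
    rw [pow_two, ← conj_conj, a2, conj_mul', a2, conj_eq_of_comm a1.symm, DD_mul_cancel t0_mem]
  · exact ts_ne (a2.symm.trans (conj_eq_of_comm (mem_CE.1 m).2.symm))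
  · refine mul_inv_eq_iff_eq_mul.1 ?_
    rw [pow_three, ← conj_conj, ← conj_conj, b1, b2, b3]
  · refine mul_inv_eq_iff_eq_mul.1 ?_
    rw [pow_three, ← conj_conj, ← conj_conj, b2, b3, b1]
  · exact s0_ne (b1.symm.trans (conj_eq_of_comm (mem_CE.1 m).1.symm))

section Aut

variable {F : Type} [Field F] [Fintype F] (hF : Fintype.card F = 4) {ψ : CE →* Lie.twistedE6 F 2}
  (hs : Function.Surjective ψ) (ker : ∀ x, ψ x = 1 ↔ Fo x)
include hF

theorem cen_T (x : Lie.twistedE6 F 2) (h : ∀ y, x * y = y * x) : x = 1 := by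
  obtain ⟨hT, hT'⟩ := S1070.result (K := F) (q := 2) Nat.prime_two.isPrimePow hF
  have hc : x ∈ center _ := mem_center_iff.2 fun y => (h y).symm
  rcases hT.eq_bot_or_eq_top_of_normal (center _) inferInstance with e | e
  · exact mem_bot.1 (e ▸ hc)
  · exact (hT' ⟨⟨fun a b => mem_center_iff.1 (e ▸ mem_top b) a⟩⟩).elim

include hs ker

theorem fo_of_cen {x : CE} (h : ∀ y, ψ x * ψ y = ψ y * ψ x) : Fo x :=
  (ker x).1 (cen_T hF _ fun y => let ⟨y, e⟩ := hs y; e ▸ h y)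

theorem fo_aut (β : MulAut CE) {x : CE} (h : Fo x) : Fo (β x) := fo_of_cen hF hs ker fun y => by
  obtain ⟨y, rfl⟩ := β.surjective y
  rw [← map_mul, ← map_mul, ← map_mul, ← map_mul, show x * y = y * x from Subtype.ext (h.comm y.2)]

theorem exists_ind (α : MulAut (Lie.twistedE6 F 2)) : ∃ n ∈ normalizer (CE : Set K),
    ∀ k k' : CE, (k' : K) = n * k * n⁻¹ → ψ k' = α (ψ k) := by
  have : CharP F 2 := charP_of_card_eq_prime_pow (f := 2) hF
  obtain ⟨ρ, hρ⟩ := Fus.exists_autPush ψ hs ⊤ fun β _ x hx => (ker _).2 (fo_aut hF hs ker β ((ker x).1 hx))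
  let σ := ρ.comp (topEquiv.symm.toMonoidHom.comp CE.normalizerMonoidHom)
  have hσ : ∀ (n : normalizer (CE : Set K)) (k k' : CE), (k' : K) = n * k * (n : K)⁻¹ → ψ k' = σ n (ψ k) :=
    fun n k k' e => (congrArg ψ (Subtype.ext e)).trans (hρ _ k).symm
  have e1 : (Inn _).comap σ = CE.subgroupOf _ := by
    ext n
    refine ⟨fun ⟨x, hx⟩ => ?_, fun m => ⟨ψ ⟨n, m⟩, MulEquiv.ext fun y => ?_⟩⟩
    · obtain ⟨x, rfl⟩ := hs x
      have m : ∀ k : CE, (n : K) * k * (n : K)⁻¹ ∈ CE := fun k => (mem_normalizer_iff.1 n.2 k).1 k.2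
      have := LyR.eq_of_perfect CE_perfect (f := (CE.normalizerMonoidHom n).toMonoidHom)
        (f' := (MulAut.conj x).toMonoidHom) (Z := ψ.ker)
        (fun z hz => ⟨fun c => Subtype.ext (((ker z).1 hz).comm (Subtype.prop _)),
          fun w _ => Subtype.ext (((ker z).1 hz).comm w.2)⟩) fun c => by
          rw [MonoidHom.mem_ker, map_mul, map_inv, inv_mul_eq_one]
          refine Eq.trans ?_ (hσ n c _ rfl).symm
          rw [← hx]
          simp
      have k1 : (n : K) * t0 * (n : K)⁻¹ = x * t0 * (x : K)⁻¹ := congrArg Subtype.val (this tE)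
      have k2 : (n : K) * s0 * (n : K)⁻¹ = x * s0 * (x : K)⁻¹ := congrArg Subtype.val (this sE)
      rw [conj_eq_of_comm (mem_CE.1 x.2).1.symm] at k1
      rw [conj_eq_of_comm (mem_CE.1 x.2).2.symm] at k2
      exact mem_CE.2 ⟨(mul_inv_eq_iff_eq_mul.1 k1).symm, (mul_inv_eq_iff_eq_mul.1 k2).symm⟩
    · obtain ⟨y, rfl⟩ := hs y
      rw [← hσ n y (⟨n, m⟩ * y * (⟨n, m⟩ : CE)⁻¹) rfl]
      simp
  have e2 : Inn _ ≤ σ.range := by
    rintro _ ⟨x, rfl⟩
    obtain ⟨x, rfl⟩ := hs x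
    refine ⟨⟨x, le_normalizer x.2⟩, MulEquiv.ext fun y => ?_⟩
    obtain ⟨y, rfl⟩ := hs y
    rw [← hσ _ y (x * y * x⁻¹) rfl]
    simp
  have e3 := relIndex_mul_index e2
  have e4 : (Inn (Lie.twistedE6 F 2)).index = 6 := S2130.result 2 1 hF le_rfl
  have e5 := six_dvd
  rw [relIndex, ← e1, index_comap] at e5
  obtain ⟨m, hm⟩ := e5
  rw [hm, e4, mul_assoc] at e3
  have e6 : σ.range = ⊤ := index_eq_one.1 (Nat.eq_one_of_mul_eq_one_left (m := m) (by omega))
  obtain ⟨n, rfl⟩ := e6.ge (mem_top α)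
  exact ⟨n, n.2, hσ n⟩

theorem st_of {M : Subgroup (centralizer ({t} : Set G))} [M.Normal] (hM : M.index = 2)
    (hout : centralizer (M : Set (centralizer ({t} : Set G))) ≤ M) {π : M →* Lie.twistedE6 F 2} {τ : M}
    (hτ : (τ : G) = t) (t1 : t ≠ 1) (k1 : ∀ x, π x = 1 ↔ x = 1 ∨ x = τ) {f : CE →* M}
    (hf : Function.Surjective f) (k2 : ∀ k, π (f k) = ψ k) (f1 : f tE = 1) (f2 : f sE = τ) :
    St t (((centralizer {t}).subtype.comp M.subtype).comp f) := by
  have τ1 : τ ≠ 1 := fun e => t1 (by rw [← hτ, e]; rfl)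
  have τc : ∀ x : M, Commute τ x := fun x => Subtype.ext (Subtype.ext (by
    change (τ : G) * x = x * τ
    rw [hτ]
    exact TT.mem_cen.1 x.1.2))
  have kf : ∀ k, f k = 1 ↔ (k : K) = 1 ∨ (k : K) = t0 := fun k => by
    refine ⟨fun e => ?_, fun e => e.elim (fun e => by rw [show k = 1 from Subtype.ext e, map_one])
      fun e => by rw [show k = tE from Subtype.ext e, f1]⟩
    rcases fo_coe.1 ((ker k).1 (by rw [← k2, e, map_one])) with rfl | rfl | rfl | rfl
    exacts [Or.inl rfl, Or.inr rfl, absurd (f2.symm.trans e) τ1,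
      absurd (by rwa [map_mul, f1, f2, one_mul] at e) τ1]
  have sπ : Function.Surjective π := fun y => let ⟨k, e⟩ := hs y; ⟨f k, (k2 k).trans e⟩
  refine ⟨fun k => Iff.trans ⟨fun e => Subtype.ext (Subtype.ext e), fun e => by simp [e]⟩ (kf k),
    by simp [f2, hτ], fun c hc => ?_, fun c hc h => ?_, fun a b ha hb a1 b1 => ?_⟩
  · let β : MulAut M := MulAut.conjNormal (⟨c, TT.mem_cen.2 hc⟩ : centralizer ({t} : Set G))
    have βτ : β τ = τ := Subtype.ext (Subtype.ext (by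
      change c * τ * c⁻¹ = τ
      rw [hτ, ← hc.eq, mul_inv_cancel_right]))
    obtain ⟨ρ, hρ⟩ := Fus.exists_autPush π sπ (zpowers β) (by
      rintro _ ⟨i, rfl⟩ x hx
      rcases (k1 x).1 hx with rfl | rfl
      · simp
      · exact (k1 _).2 (Or.inr (zpow_mem (show β ∈ MulAction.stabilizer _ x from βτ) i)))
    obtain ⟨n, hn, h⟩ := exists_ind hF hs ker (ρ ⟨β, mem_zpowers β⟩)
    have key := LyR.eq_of_perfect CE_perfect
      (f := f.comp (CE.normalizerMonoidHom ⟨n, hn⟩).toMonoidHom) (f' := β.toMonoidHom.comp f) (Z := π.ker)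
      (fun z hz => ((k1 z).1 hz).elim (fun e => by simp [e]) fun e => e ▸ ⟨fun _ => τc _, fun _ _ => τc _⟩)
      fun k => by
        rw [MonoidHom.mem_ker, map_mul, map_inv, inv_mul_eq_one]
        exact (hρ ⟨β, mem_zpowers β⟩ (f k)).symm.trans (((congrArg _ (k2 k)).trans (h k _ rfl).symm).trans
          (k2 _).symm)
    have e1 : n * t0 * n⁻¹ = t0 := ((kf _).1 ((key tE).trans (by simp [f1]))).resolve_left fun e =>
      DD_ne_one t0_mem (conj_eq_one_iff.1 e)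
    have e2 := (kf (sE * CE.normalizerMonoidHom ⟨n, hn⟩ sE)).1 (by
      have := key sE
      rw [MonoidHom.comp_apply, MonoidHom.comp_apply, f2, MulEquiv.coe_toMonoidHom,
        MulEquiv.coe_toMonoidHom, βτ] at this
      rw [map_mul, this, ← f2, ← map_mul, show sE * sE = 1 from Subtype.ext ss0, map_one])
    refine ⟨n, ⟨(mul_inv_eq_iff_eq_mul.1 e1).symm, e2.imp (fun e => ?_) fun e => ?_⟩, fun k k' e => ?_⟩
    · rw [← DD_mul_cancel s0_mem.1 (n * s0 * n⁻¹), show s0 * (n * s0 * n⁻¹) = 1 from e, mul_one]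
    · rw [← DD_mul_cancel s0_mem.1 (n * s0 * n⁻¹), show s0 * (n * s0 * n⁻¹) = t0 from e, ts_comm.eq]
    · rw [show k' = CE.normalizerMonoidHom ⟨n, hn⟩ k from Subtype.ext e]
      exact (congrArg (fun x : M => (x : G)) (key k)).symm
  · have m : (⟨c, TT.mem_cen.2 hc⟩ : centralizer ({t} : Set G)) ∈ M := hout fun y hy => Subtype.ext (by
      obtain ⟨k, e⟩ := hf ⟨y, hy⟩
      have := h k
      rw [MonoidHom.comp_apply, e] at this
      exact this.symm)
    refine ((k1 ⟨_, m⟩).1 (cen_T hF _ fun y => ?_)).imp (fun e => congrArg (fun x : M => (x : G)) e)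
      fun e => (congrArg (fun x : M => (x : G)) e).trans hτ
    obtain ⟨k, rfl⟩ := hs y
    rw [← k2, ← map_mul, ← map_mul]
    exact congrArg π (Subtype.ext (Subtype.ext (h k)))
  · have r : ∀ x : centralizer ({t} : Set G), x ∈ M ↔
        (x : G) ∈ (((centralizer {t}).subtype.comp M.subtype).comp f).range := fun x =>
      ⟨fun m => let ⟨k, e⟩ := hf ⟨x, m⟩; ⟨k, congrArg (fun x : M => (x : G)) e⟩,
        fun ⟨k, e⟩ => (Subtype.ext e : ((f k : M) : centralizer ({t} : Set G)) = x) ▸ (f k).2⟩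
    exact (r (⟨a, TT.mem_cen.2 ha⟩ * ⟨b, TT.mem_cen.2 hb⟩)).1 ((mul_mem_iff_of_index_two hM).2
      (iff_of_false (mt (r _).1 a1) (mt (r _).1 b1)))

end Aut

theorem exists_cover {A T M B : Type*} [Group A] [Group T] [Group M] [CommGroup B] [Finite A] [Finite M]
    [Group.IsPerfect A] {ψ : A →* T} (hs : Function.Surjective ψ)
    (h1 : ∀ x, ψ x = 1 → x * x = 1 ∧ ∀ y, y * x = x * y) (h4 : Nat.card A = Nat.card T * 4)
    (hB : HasSchurMultiplier T B) (hB' : Nat.card B = 3 * 4) {π : M →* T}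
    (hπ : IsStemExtension π) (h2 : ∀ x, π x = 1 → x * x = 1) :
    ∃ f : A →* M, Function.Surjective f ∧ ∀ k, π (f k) = ψ k := by
  have : Group.IsPerfect T := Group.IsPerfect.ofSurjective hs
  have : Group.IsPerfect M := Ch.isPerfect_of_isStemExtension hπ
  let P : Subgroup (A × M) := (ψ.comp (MonoidHom.fst A M)).eqLocus (π.comp (MonoidHom.snd A M))
  have hP : ∀ x : P, ψ x.1.1 = π x.1.2 := fun x => x.2
  let p1 : P →* A := (MonoidHom.fst A M).comp P.subtype
  let p2 : P →* M := (MonoidHom.snd A M).comp P.subtype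
  have s1 : Function.Surjective p1 := fun a => let ⟨b, e⟩ := hπ.1 (ψ a); ⟨⟨(a, b), e.symm⟩, rfl⟩
  have s2 : Function.Surjective p2 := fun b => let ⟨a, e⟩ := hs (π b); ⟨⟨(a, b), e⟩, rfl⟩
  have c1 : ∀ a, ∃ x ∈ commutator P, p1 x = a := fun a => by
    have : (commutator P).map p1 = ⊤ := by
      rw [map_commutator_eq, MonoidHom.range_eq_top.2 s1, ← commutator_def, Group.IsPerfect.commutator_eq_top]
    exact this.ge (mem_top a)
  have c2 : ∀ b, ∃ x ∈ commutator P, p2 x = b := fun b => by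
    have : (commutator P).map p2 = ⊤ := by
      rw [map_commutator_eq, MonoidHom.range_eq_top.2 s2, ← commutator_def, Group.IsPerfect.commutator_eq_top]
    exact this.ge (mem_top b)
  have hz : (ψ.comp p1).ker ≤ center P := fun x hx => mem_center_iff.2 fun y => Subtype.ext (Prod.ext
    ((h1 _ hx).2 _) (mem_center_iff.1 (hπ.2.1 ((hP x).symm.trans hx)) _))
  have hd := hB.card_inf_dvd (ψ.comp p1) (hs.comp s1) hz
  have hp : IsPGroup 2 ↥((ψ.comp p1).ker ⊓ commutator P) := fun z => ⟨1, by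
    rw [pow_one, pow_two]
    exact Subtype.ext (Subtype.ext (Prod.ext (h1 _ z.2.1).1 (h2 _ ((hP z.1).symm.trans z.2.1))))⟩
  obtain ⟨m, hm⟩ := IsPGroup.iff_card.1 hp
  rw [hB', hm] at hd
  have h4' : 2 ^ m ≤ 4 := Nat.le_of_dvd (by norm_num)
    ((Nat.Coprime.pow_left m (by norm_num : Nat.Coprime 2 3)).dvd_of_dvd_mul_left hd)
  have q1 : Function.Surjective (p1.comp (commutator P).subtype) := fun a =>
    let ⟨x, h, e⟩ := c1 a; ⟨⟨x, h⟩, e⟩
  have b1 : Function.Bijective (p1.comp (commutator P).subtype) := by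
    refine q1.bijective_of_nat_card_le ?_
    have k1 := card_eq_card_quotient_mul_card_subgroup ((ψ.comp p1).comp (commutator P).subtype).ker
    rw [Nat.card_congr (QuotientGroup.quotientKerEquivOfSurjective ((ψ.comp p1).comp (commutator P).subtype)
        (hs.comp q1)).toEquiv,
      ← MonoidHom.comap_ker, ← subgroupOf,
      ← card_map_of_injective (commutator P).subtype_injective, subgroupOf_map_subtype, hm] at k1
    rw [h4, k1]
    exact Nat.mul_le_mul_left _ h4'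
  refine ⟨(p2.comp (commutator P).subtype).comp (MulEquiv.ofBijective _ b1).symm.toMonoidHom,
    fun b => ?_, fun k => ?_⟩
  · obtain ⟨x, h, e⟩ := c2 b
    exact ⟨MulEquiv.ofBijective _ b1 ⟨x, h⟩, (congrArg (p2.comp (commutator P).subtype)
      ((MulEquiv.ofBijective _ b1).symm_apply_apply _)).trans e⟩
  · obtain ⟨x, rfl⟩ := (MulEquiv.ofBijective _ b1).surjective k
    exact (congrArg (fun y => π (p2.comp (commutator P).subtype y))
      ((MulEquiv.ofBijective _ b1).symm_apply_apply _)).trans (hP x).symm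

theorem exists_st [Finite G] (ht : orderOf t = 2) (M : Subgroup (centralizer ({t} : Set G))) [M.Normal]
    (hM : M.index = 2) (F : Type) [Field F] [Fintype F] (hF : Fintype.card F = 4)
    (hout : centralizer (M : Set (centralizer ({t} : Set G))) ≤ M)
    (hcov : IsNonsplitDoubleCover M (Lie.twistedE6 F 2)) : ∃ φ, St t φ := by
  obtain ⟨ψ, hs, ker⟩ := exists_twE6 hF
  simp only [← fo_coe] at ker
  have : Group.IsPerfect CE := ⟨CE_perfect⟩
  have : Group.IsPerfect (Lie.twistedE6 F 2) := Group.IsPerfect.ofSurjective hs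
  obtain ⟨π, hπ, h2⟩ := MX.stem_of_nonsplit hcov
  have t1 : t ≠ 1 := fun e => by simp [e] at ht
  let τ : M := ⟨⟨t, TT.mem_cen.2 (Commute.refl t)⟩, hout fun y _ => Subtype.ext (TT.mem_cen.1 y.2).symm⟩
  have τ1 : τ ≠ 1 := fun e => t1 (congrArg (fun x : M => (x : G)) e)
  have pτ : π τ = 1 := cen_T hF _ fun y => by
    obtain ⟨y, rfl⟩ := hπ.1 y
    rw [← map_mul, ← map_mul]
    exact congrArg π (Subtype.ext (Subtype.ext (TT.mem_cen.1 y.1.2)))
  have k1 : ∀ x, π x = 1 ↔ x = 1 ∨ x = τ := fun x => by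
    refine ⟨fun e => or_iff_not_imp_left.2 fun n => ?_, fun e => e.elim (· ▸ map_one π) (· ▸ pτ)⟩
    obtain ⟨y, -, hy⟩ := (Nat.card_eq_two_iff' (1 : π.ker)).1 h2
    exact congrArg Subtype.val ((hy ⟨x, e⟩ fun k => n (congrArg Subtype.val k)).trans
      (hy ⟨τ, pτ⟩ fun k => τ1 (congrArg Subtype.val k)).symm)
  have ττ : τ * τ = 1 := Subtype.ext (Subtype.ext (by
    change t * t = 1
    rw [← pow_two, ← ht, pow_orderOf_eq_one]))
  obtain ⟨f, hf, k2⟩ := exists_cover hs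
    (fun x e => ⟨Subtype.ext ((ker x).1 e).sq, fun y => Subtype.ext (((ker x).1 e).comm y.2).symm⟩)
    (by rw [card_CE, card_twE6 hF]) (S2109.result hF) (by
      rw [Nat.card_congr Multiplicative.toAdd, Nat.card_prod, Nat.card_prod, Nat.card_zmod, Nat.card_zmod])
    hπ fun x e => ((k1 x).1 e).elim (fun e => by rw [e, one_mul]) fun e => by rw [e, ττ]
  have key : ∀ a b : CE, Fo a → Fo b → (a : K) ∈ DD → (b : K) ∈ O1 a → f a = 1 → f b = τ → ∃ φ, St t φ :=
    fun a b a1 b1 a2 b2 a3 b3 => by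
    obtain ⟨g, g1, g2⟩ := O1_std0 a2 b2
    have g3 : g⁻¹ * t0 * g⁻¹⁻¹ = a := by rw [← g1]; group
    have g4 : g⁻¹ * s0 * g⁻¹⁻¹ = b := by rw [← g2]; group
    let β := CE.normalizerMonoidHom ⟨g⁻¹, mem_norm (g3 ▸ a1) (g4 ▸ b1)⟩
    exact ⟨_, st_of hF (ψ := ψ.comp β.toMonoidHom) (hs.comp β.surjective)
      (fun x => (ker _).trans ⟨fun h => by simpa using fo_aut hF hs ker β⁻¹ h, fo_aut hF hs ker β⟩) hM hout
      (τ := τ) rfl t1 k1 (f := f.comp β.toMonoidHom) (hf.comp β.surjective) (fun k => k2 _)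
      ((congrArg f (Subtype.ext g3)).trans a3) ((congrArg f (Subtype.ext g4)).trans b3)⟩
  have ft : Fo tE := Or.inr (Or.inl rfl)
  have fs : Fo sE := Or.inr (Or.inr (Or.inl rfl))
  rcases (k1 (f tE)).1 ((k2 _).trans ((ker _).2 ft)) with a | a <;>
    rcases (k1 (f sE)).1 ((k2 _).trans ((ker _).2 fs)) with b | b
  · obtain ⟨k, e⟩ := hf τ
    refine absurd e.symm ?_
    rcases fo_coe.1 ((ker k).1 (by rw [← k2, e, pτ])) with rfl | rfl | rfl | rfl <;> simpa [a, b] using τ1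
  · exact key _ _ ft fs t0_mem s0_mem a b
  · exact key _ _ fs ft s0_mem.1 (O1_symm t0_mem s0_mem) b a
  · exact key (tE * sE) _ (Or.inr (Or.inr (Or.inr rfl))) ft (O1_mul_DD t0_mem s0_mem)
      (O1_symm t0_mem (O1_mul t0_mem s0_mem)) (by rw [map_mul, a, b, ττ]) a

end Cfsg.Agent.B2E
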