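import Mathlib
import Cfsg.Agent.B2E.St
import Cfsg.Agent.Gr.GDef
import Cfsg.Agent.Blk.ZStar

/-! The conjugates of `t` in the double cover. -/

set_option autoImplicit false

namespace Cfsg.Agent.B2E

open Subgroup Cfsg.Agent.Spor Cfsg.Agent.Gr Cfsg.Agent.Gr.Rk Cfsg.Agent.Gr6B

variable {G : Type*} [Group G] {t c g u : G} {φ : CE →* G} {n : K} {a b k : CE}

/-- The element `y3` of `CE`. -/
noncomputable def yE : CE := ⟨y3, y3_CE⟩

/-- The element `zz` of `CE`. -/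
noncomputable def zE : CE := ⟨zz, zz_CE⟩

theorem tri_E : tE * sE * yE = zE := Subtype.ext tri_prod

theorem N1.nn (h : N1 n) {m : K} (hm : m ∈ NN) : n * m * n⁻¹ ∈ NN ∨ t0 * (n * m * n⁻¹) ∈ NN := by
  have e := conj_eq_of_comm h.1.symm
  have n1 : n * m * n⁻¹ ≠ n * s0 * n⁻¹ := mt (conj_eq_iff _ _ _).1 (O1_ne s0_mem.1 hm.2.1)
  have n2 : n * m * n⁻¹ ≠ n * (t0 * s0) * n⁻¹ := mt (conj_eq_iff _ _ _).1 hm.2.2
  have e3 : n * (t0 * s0) * n⁻¹ = t0 * (n * s0 * n⁻¹) := by rw [conj_mul', e]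
  rcases nn_cases (conj_mem_DD n hm.1.1) (by
    have := conj_mem_DD n (O1_mul_DD t0_mem hm.1)
    rwa [conj_mul', e] at this)
    (mem_CE.1 (h.mem ⟨m, NN_CE hm⟩)).2 with k | k | k
  · rcases h.2 with l | l
    · exact absurd (k.trans l.symm) n1
    · exact absurd (by rw [e3, l, DD_mul_cancel t0_mem, k]) n2
  · rcases h.2 with l | l
    · exact absurd (by rw [e3, l, k]) n2
    · exact absurd (k.trans l.symm) n1
  · exact k

section W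

variable {L : Subgroup K} {κ : L →* G} {m : CC} {q q' : L} {e : ZMod 2} {x : LL}

theorem w_tq (hq : (q : K) = tq e x) (hq' : (q' : K) = m * q * (m : K)⁻¹) :
    ∃ f, ((q * q'⁻¹ : L) : K) = tq f (csm (PP.sg m) x + x) := by
  obtain ⟨f, hf⟩ := PP.sg_spec m e x
  exact ⟨_, by rw [coe_mul, coe_inv, hq', hq, hf, ActH.tq_inv, tq_mul, add_comm x]⟩

theorem w_eq (hu : u * κ q * u⁻¹ = κ q') : κ (q * q'⁻¹) * u = κ q * u * (κ q)⁻¹ := by
  rw [map_mul, map_inv, ← hu]; group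

theorem w_sq (hq : (q : K) = tq e x) (hq' : (q' : K) = m * q * (m : K)⁻¹)
    (hx : pol x (csm (PP.sg m) x) = 0) : q * q'⁻¹ * (q * q'⁻¹) = 1 := by
  obtain ⟨f, hf⟩ := w_tq hq hq'
  refine Subtype.ext ?_
  rw [coe_mul, hf, tq_mul_self, qL_add, qL_csm, z2_add_self, zero_add, pol_comm, hx, tq_zero, coe_one]

theorem w_comm (uu : u * u = 1) (hu : u * κ q * u⁻¹ = κ q') (h : q * q'⁻¹ * (q * q'⁻¹) = 1) :
    Commute u (κ (q * q'⁻¹)) := by
  have h1 : κ (q * q'⁻¹) * u * (κ (q * q'⁻¹) * u) = 1 := by rw [w_eq hu, conj_mul, uu]; simp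
  exact (Sub.comm_of_sq (by rw [← map_mul, h, map_one]) uu h1).symm

theorem w_ne (hq : (q : K) = tq e x) (hq' : (q' : K) = m * q * (m : K)⁻¹) (hx : x ∉ Fv (PP.sg m))
    (f : ZMod 2) : ((q * q'⁻¹ : L) : K) ≠ tq f 0 ∧ ((q * q'⁻¹ : L) : K) ≠ tq f (cls v1) := by
  obtain ⟨f, hf⟩ := w_tq hq hq'
  rw [hf]
  exact ⟨fun k => hx (mem_Fv.2 (Or.inl (tq_inj.1 k).2)), fun k => hx (mem_Fv.2 (Or.inr (tq_inj.1 k).2))⟩

end W

namespace St

variable (h : St t φ)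
include h

theorem eq_iff : φ a = φ b ↔ (a : K) = b ∨ (a : K) = t0 * b := by
  rw [← mul_inv_eq_one, ← map_inv, ← map_mul, h.ker, coe_mul, coe_inv, mul_inv_eq_one,
    mul_inv_eq_iff_eq_mul]

theorem map_t : φ tE = 1 := (h.ker _).2 (Or.inr rfl)

theorem comm (k : CE) : Commute t (φ k) :=
  h.map_s ▸ Commute.map (show Commute sE k from Subtype.ext (mem_CE.1 k.2).2.eq) φ

theorem tt : t * t = 1 := by rw [← h.map_s, ← map_mul, h.ker]; exact Or.inl ss0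

theorem t1 : t ≠ 1 := fun e => ((h.ker _).1 (h.map_s.trans e)).elim (DD_ne_one s0_mem.1) s0_ne

theorem eq_t : φ k = t ↔ (k : K) = s0 ∨ (k : K) = t0 * s0 := by rw [← h.map_s, h.eq_iff]; rfl

theorem tri : t * φ yE = φ zE := by rw [← tri_E, map_mul, map_mul, h.map_t, h.map_s, one_mul]

theorem ne_t (hk : (k : K) ∈ NN) : φ k ≠ t := fun e =>
  (h.eq_t.1 e).elim (O1_ne s0_mem.1 hk.2.1) hk.2.2

theorem conj (g : G) : St (g * t * g⁻¹) ((MulAut.conj g).toMonoidHom.comp φ) := by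
  have cm : ∀ {c}, Commute (g * t * g⁻¹) c → Commute t (g⁻¹ * c * g) := fun {c} k => by
    simpa [TT.cj_def, mul_assoc] using (TT.commute_cj (g := g⁻¹)).2 k
  have r : ∀ {c}, c ∈ ((MulAut.conj g).toMonoidHom.comp φ).range ↔ g⁻¹ * c * g ∈ φ.range :=
    ⟨fun ⟨k, e⟩ => ⟨k, by simp [← e, mul_assoc]⟩, fun ⟨k, e⟩ => ⟨k, by simp [e, mul_assoc]⟩⟩
  refine ⟨fun k => by simp [h.ker], by simp [h.map_s], fun c hc => ?_, fun c hc k => ?_,
    fun a b ha hb a1 b1 => r.2 ?_⟩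
  · obtain ⟨n, n1, n2⟩ := h.ind _ (cm hc)
    exact ⟨n, n1, fun k k' e => by simp [← n2 k k' e, mul_assoc]⟩
  · refine (h.cen _ (cm hc) fun x => ?_).imp (fun e => by simpa [mul_assoc] using congrArg (g * · * g⁻¹) e)
      fun e => by simp [← e, mul_assoc]
    simpa [TT.cj_def, mul_assoc] using (TT.commute_cj (g := g⁻¹)).2 (k x)
  · simpa [mul_assoc] using h.idx _ _ (cm ha) (cm hb) (mt r.2 a1) (mt r.2 b1)

theorem not_sq (k : CE) : φ k * φ k ≠ t := fun e => by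
  rw [← map_mul, h.eq_t] at e
  have := c3_sq k.2 (Or.inr (Or.inr e))
  exact e.elim (fun e => DD_ne_one s0_mem.1 (e.symm.trans this))
    fun e => DD_ne_one (O1_mul_DD t0_mem s0_mem) (e.symm.trans this)

theorem sq_mem (hc : Commute t c) : c * c ∈ φ.range :=
  (em (c ∈ φ.range)).elim (fun m => mul_mem m m) fun m => h.idx c c hc hc m m

theorem no_ns {L : Subgroup K} (κ : L →* G) {a b : K} {k : L} (hL : ∀ x, Cm a b k x → x ∈ L)
    (e : κ k = t) : ¬ NS a b k := fun m => by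
  have cm : ∀ x (hx : Cm a b k x), Commute t (κ ⟨x, hL x hx⟩) := fun x hx =>
    e ▸ Commute.map (show Commute k ⟨x, hL x hx⟩ from Subtype.ext hx.2.2.eq) κ
  obtain ⟨_, ⟨l, ⟨x, l1⟩, rfl⟩, -, l2⟩ := m ((φ.range.comap κ).map L.subtype) fun x y hx hy x1 y1 =>
    ⟨⟨x, hL x hx⟩ * ⟨y, hL y hy⟩, mem_comap.2 ((map_mul κ _ _).symm ▸ h.idx _ _ (cm x hx) (cm y hy)
      (fun m => x1 ⟨_, m, rfl⟩) fun m => y1 ⟨_, m, rfl⟩), rfl⟩
  exact h.not_sq x (by rw [l1, ← map_mul, ← e]; exact congrArg κ (Subtype.ext l2))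

/-- The conjugates of `t` in the image of `φ`. -/
theorem fus (e : φ k = g * t * g⁻¹) : φ k = t ∨ ∃ n : CE, (n : K) ∈ NN ∧ φ n = φ k := by
  have e1 : φ (tE * k) = φ k := by rw [map_mul, h.map_t, one_mul]
  have key : ∀ k : CE, φ k = g * t * g⁻¹ → (k : K) ∈ DD := fun k e => by
    by_contra m
    have k1 : (k : K) * k = 1 := c3_sq k.2 (((h.ker (k * k)).1 (by
      rw [map_mul, e, conj_mul, h.tt]; simp)).imp_right Or.inl)
    exact (h.conj g).no_ns φ (fun x hx => mem_CE.2 ⟨hx.1, hx.2.1⟩) e (ns k.2 k1 (fun l => h.t1 (by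
      rw [show k = 1 from Subtype.ext l, map_one, eq_comm, conj_eq_one_iff] at e; exact e)) m)
  rcases nn_cases (key k e) (key _ (e1.trans e)) (mem_CE.1 k.2).2 with m | m | m | m
  exacts [Or.inl (h.eq_t.2 (Or.inl m)), Or.inl (h.eq_t.2 (Or.inr m)), Or.inr ⟨k, m, rfl⟩,
    Or.inr ⟨_, m, e1⟩]

theorem inj_NN (ha : (a : K) ∈ NN) (hb : (b : K) ∈ NN) (e : φ a = φ b) : a = b :=
  Subtype.ext ((h.eq_iff.1 e).resolve_right fun k => not_NN hb (k ▸ ha))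

theorem comm_NN (ha : (a : K) ∈ NN) (e : Commute (φ k) (φ a)) : Commute k a :=
  mul_inv_eq_iff_eq_mul.1 (h.inj_NN (conj_mem_NN (mem_CE.1 k.2).1.symm (mem_CE.1 k.2).2.symm ha) ha
    (by rw [map_mul, map_mul, map_inv, e.eq, mul_inv_cancel_right]))

theorem mem_range (hc : Commute t c) (hn : n ∈ CE) (e : As φ c n) : c ∈ φ.range := by
  have := h.cen (c * (φ ⟨n, hn⟩)⁻¹) (hc.mul_right (h.comm _).inv_right) fun k => by
    have := e ((⟨n, hn⟩ : CE)⁻¹ * k * ⟨n, hn⟩) k (by simp [mul_assoc])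
    rw [map_mul, map_mul, map_inv] at this
    exact mul_inv_eq_iff_eq_mul.1 (Eq.trans (by group) this)
  rcases this with e | e
  · exact ⟨_, (mul_inv_eq_one.1 e).symm⟩
  · exact ⟨sE * ⟨n, hn⟩, by rw [map_mul, h.map_s, ← e, inv_mul_cancel_right]⟩

theorem out (hc : Commute t c) (m : c ∉ φ.range) :
    ∃ n, N1 n ∧ n * s0 * n⁻¹ = t0 * s0 ∧ As φ c n :=
  let ⟨n, n1, n2⟩ := h.ind c hc
  ⟨n, n1, n1.2.resolve_left fun e =>
    m (h.mem_range hc (mem_CE.2 ⟨n1.1, (mul_inv_eq_iff_eq_mul.1 e).symm⟩) n2), n2⟩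

theorem conj_NN (hc : Commute t c) (ha : (a : K) ∈ NN) : ∃ b : CE, (b : K) ∈ NN ∧ φ b = c * φ a * c⁻¹ := by
  obtain ⟨n, n1, n2⟩ := h.ind c hc
  have e := n2 a ⟨_, n1.mem a⟩ rfl
  rcases n1.nn ha with m | m
  · exact ⟨_, m, e.symm⟩
  · exact ⟨tE * ⟨_, n1.mem a⟩, m, by rw [map_mul, h.map_t, one_mul, e]⟩

theorem exists_cj (ha : (a : K) ∈ NN) : ∃ k, φ k * φ a * (φ k)⁻¹ = φ yE := by
  obtain ⟨g, g1, g2, g3⟩ := NN_trans ha
  exact ⟨⟨g, GenH.mem_cent2.2 ⟨g1, g2⟩⟩, by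
    rw [← map_inv, ← map_mul, ← map_mul]; exact congrArg φ (Subtype.ext g3)⟩

variable [Finite G]

theorem exists_fix (hc : Commute t c) (cc : c * c = 1) : ∃ a : CE, (a : K) ∈ NN ∧ Commute c (φ a) := by
  have m : ∀ c, Commute t c → ∀ y ∈ φ '' {a | (a : K) ∈ NN}, c * y * c⁻¹ ∈ φ '' {a | (a : K) ∈ NN} := by
    rintro c hc _ ⟨a, ha, rfl⟩
    exact h.conj_NN hc ha
  obtain ⟨_, ⟨a, ha, rfl⟩, e⟩ := KFI.SF.exists_comm (n := 1) Nat.prime_two (by rw [pow_one, pow_two, cc])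
    (S := φ '' {a | (a : K) ∈ NN}) (fun y => ⟨fun k => by
      simpa [mul_assoc] using m _ hc.inv_right _ k, m c hc y⟩) (by
    rw [Nat.card_coe_set_eq, Set.InjOn.ncard_image (s := {a : CE | (a : K) ∈ NN}) fun _ ha _ hb => h.inj_NN ha hb,
      ← Set.ncard_image_of_injective _ CE.subtype_injective,
      show CE.subtype '' {a | (a : K) ∈ NN} = NN from Set.ext fun x =>
        ⟨by rintro ⟨a, ha, rfl⟩; exact ha, fun k => ⟨⟨x, NN_CE k⟩, k, rfl⟩⟩,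
      ncard_eq_nb, NN_eq, nb_RR t0_mem s0_mem]
    norm_num)
  exact ⟨a, ha, e⟩

theorem outer (e : u = g * t * g⁻¹) (hu : Commute t u) (m : u ∉ φ.range) (hy : Commute u (φ yE)) :
    ∃ (g : G) (k : CE), φ k = g * t * g⁻¹ ∧ φ k ≠ t := by
  by_contra! nn
  have uu : u * u = 1 := by rw [e, conj_mul, h.tt]; simp
  obtain ⟨n, n1, n2, n3⟩ := h.out hu m
  have nz : zz * n = n * zz := by
    have k := n3 zE ⟨_, n1.mem zE⟩ rfl
    rw [← h.tri, (hu.symm.mul_right hy).eq, mul_inv_cancel_right, h.tri, eq_comm, h.eq_iff] at k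
    exact (mul_inv_eq_iff_eq_mul.1 (k.resolve_right fun k =>
      zz_not_mem_DD (mem_DD_conj.1 ((show n * zz * n⁻¹ = t0 * zz from k) ▸ zt_mem)))).symm
  let N : CC := ⟨n, mem_CC.2 ⟨n1.1, nz⟩⟩
  have n4 : n * n ∈ CE := mem_CE.2 ⟨n1.1.mul_right n1.1, (mul_inv_eq_iff_eq_mul.1 (by
    rw [← conj_conj, n2, conj_mul', n2, conj_eq_of_comm n1.1.symm, DD_mul_cancel t0_mem])).symm⟩
  have n5 : n * n ∈ QK := by
    have := h.cen (φ ⟨_, n4⟩) (h.comm _) fun k => mul_inv_eq_iff_eq_mul.1 (by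
      rw [← map_inv, ← map_mul, ← map_mul, ← n3 ⟨_, n1.mem k⟩ _ (conj_conj _ _ _).symm,
        ← n3 k ⟨_, n1.mem k⟩ rfl, ← TT.cj_def, ← TT.cj_def, TT.cj_cj, uu, TT.cj_one])
    rw [h.ker, h.eq_t] at this
    exact Fo.mem_QK (or_assoc.1 this)
  have hh : PP.sg N * PP.sg N = 1 := by rw [← map_mul, PP.sg_eq_one]; exact n5
  have h1 : PP.sg N ≠ 1 := fun k => by
    rcases GE.QK_conj (PP.sg_eq_one.1 k) s0_mem_QK with k | k
    · exact ts_ne (n2.symm.trans k)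
    · exact zz_not_mem_DD (mul_left_cancel (k.symm.trans (n2.trans ts_comm.eq)) ▸ t0_mem)
  obtain ⟨p, -, hp⟩ := exists_b hh
  have le : InnB.Q0 ⊓ centralizer {tq 0 p} ≤ QK := fun q hq => (InnB.mem_Q0.1 hq.1).1
  have c1 := InnB.card_Q0
  have c2 := GenH.card_le_two (L := InnB.Q0) (fun q hq => (InnB.mem_Q0.1 hq).1) 0 p
  obtain ⟨a, ⟨ea, ha⟩, b, ⟨eb, hb⟩, c, ⟨ec, hc⟩, ⟨a1, b1, c1⟩, ⟨ab, ac, bc⟩, abc⟩ :=
    lb2 hh h1 (PP.sg_v1 N) le (by omega)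
  have ce : ∀ {q}, q ∈ InnB.Q0 ⊓ centralizer {tq 0 p} → q ∈ CE := fun hq =>
    GenH.mem_cent2.2 ⟨(GE.Q0_comm hq.1).1, (GE.Q0_comm hq.1).2.1⟩
  let cj : CE → CE := fun q => ⟨_, n1.mem q⟩
  have w : ∀ (q : CE) e x, (q : K) = tq e x → (q : K) ∈ InnB.Q0 ⊓ centralizer {tq 0 p} → x ∉ Fv (PP.sg N) →
      Commute u (φ (q * (cj q)⁻¹)) ∧ φ (q * (cj q)⁻¹) ∉ ((MulAut.conj g).toMonoidHom.comp φ).range :=
    fun q f x q1 q2 q3 => by
      refine ⟨w_comm uu (n3 q _ rfl) (w_sq (m := N) q1 rfl ((hp x).trans (tq_comm_iff.1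
        (q1 ▸ mem_cent.1 q2.2)))), fun ⟨k, m⟩ => ?_⟩
      have k1 := w_eq (n3 q (cj q) rfl)
      have k2 : φ (k * sE) = g⁻¹ * φ q * g * t * (g⁻¹ * φ q * g)⁻¹ := by
        rw [← m, e] at k1
        rw [map_mul, h.map_s, ← mul_left_cancel_iff (a := g), ← mul_right_cancel_iff (a := g⁻¹)]
        simpa [mul_assoc] using k1
      have k3 := nn _ _ k2
      rw [map_mul, h.map_s, mul_eq_right] at k3
      rw [MonoidHom.comp_apply, k3, map_one, eq_comm, h.ker, ← tq_zero, t0_v1] at m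
      exact m.elim (w_ne (m := N) q1 rfl q3 0).1 (w_ne (m := N) q1 rfl q3 0).2
  have key : ∀ {e f x y}, tq e x ∈ InnB.Q0 ⊓ centralizer {tq 0 p} → tq f y ∈ InnB.Q0 ⊓ centralizer {tq 0 p} →
      x ∉ Fv (PP.sg N) → y ∉ Fv (PP.sg N) → x + y ∉ Fv (PP.sg N) → pol x (csm (PP.sg N) y + y) ≠ 0 :=
    fun {e f x y} hx hy x1 y1 xy k => by
      obtain ⟨p1, p2⟩ := w ⟨_, ce hx⟩ e x rfl hx x1
      obtain ⟨q1, q2⟩ := w ⟨_, ce hy⟩ f y rfl hy y1
      refine (w (⟨_, ce hx⟩ * ⟨_, ce hy⟩) _ _ (tq_mul _ _ _ _) (mul_mem hx hy) xy).2 ?_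
      obtain ⟨f', hf⟩ := w_tq (m := N) (q := (⟨_, ce hy⟩ : CE)) (q' := cj ⟨_, ce hy⟩) rfl rfl
      have c : Commute (⟨_, ce hx⟩ : CE) (⟨_, ce hy⟩ * (cj ⟨_, ce hy⟩)⁻¹) :=
        Subtype.ext (by rw [coe_mul, coe_mul _ _ (⟨_, ce hx⟩ : CE), hf]; exact tq_comm_iff.2 k)
      rw [show cj (⟨_, ce hx⟩ * ⟨_, ce hy⟩) = cj ⟨_, ce hx⟩ * cj ⟨_, ce hy⟩ from Subtype.ext (conj_mul' _ _ _),
        mul_inv_rev, ← mul_assoc, mul_assoc (⟨_, ce hx⟩ : CE), c.eq, mul_assoc, map_mul]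
      exact (h.conj g).idx _ _ (‹u = _› ▸ q1) (‹u = _› ▸ p1) q2 p2
  have k1 := key ha hc a1 c1 ac
  have k2 := key hb hc b1 c1 bc
  refine key (tq_mul _ _ _ _ ▸ mul_mem ha hb) hc ab c1 abc ?_
  rw [pol_add_left, (z2_cases _).resolve_left k1, (z2_cases _).resolve_left k2, z2_add_self]

theorem y_ne : φ yE ≠ 1 := fun e => ((h.ker _).1 e).elim (DD_ne_one y3_mem) y3_ne

theorem conj_y [IsSimpleGroup G] : ∃ g, g * t * g⁻¹ = φ yE := by
  have o : orderOf t = 2 := orderOf_eq_prime (by rw [pow_two, h.tt]) h.t1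
  obtain ⟨g, g1, g2⟩ : ∃ g, Commute t (g * t * g⁻¹) ∧ g * t * g⁻¹ ≠ t := by
    by_contra! n
    have k := Blk.ZStar.zstar_aux _ G rfl t ⟨o, n⟩
    rcases IsSimpleGroup.eq_bot_or_eq_top_of_normal (oddCore G) inferInstance with e | e
    · have c : t ∈ center G := mem_center_iff.2 fun g => by
        have := k g
        rw [e, mem_bot, mul_inv_eq_one, mul_inv_eq_iff_eq_mul] at this
        exact this.symm
      rcases IsSimpleGroup.eq_bot_or_eq_top_of_normal (center G) inferInstance with e | e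
      · exact h.t1 (mem_bot.1 (e ▸ c))
      · exact (h.cen _ (h.comm yE) fun k => mem_center_iff.1 (e ▸ mem_top _) _).elim h.y_ne
          (h.ne_t y3_mem_NN)
    · exact absurd (o ▸ (oddCore G).orderOf_dvd_natCard (e ▸ mem_top t)) GT.odd_card_oddCore.not_two_dvd_nat
  obtain ⟨g, k, k1, k2⟩ : ∃ (g : G) (k : CE), φ k = g * t * g⁻¹ ∧ φ k ≠ t := by
    by_cases m : g * t * g⁻¹ ∈ φ.range
    · obtain ⟨k, e⟩ := m
      exact ⟨g, k, e, e ▸ g2⟩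
    obtain ⟨a, a1, a2⟩ := h.exists_fix g1 (by rw [conj_mul, h.tt]; simp)
    obtain ⟨k, e⟩ := h.exists_cj a1
    refine h.outer (g := φ k * g) (u := φ k * (g * t * g⁻¹) * (φ k)⁻¹) (by group)
      (((h.comm k).mul_right g1).mul_right (h.comm k).inv_right) (fun l => m ?_) (e ▸ TT.commute_cj.2 a2)
    simpa [mul_assoc] using mul_mem (mul_mem (inv_mem (⟨k, rfl⟩ : φ k ∈ φ.range)) l) (⟨k, rfl⟩ : φ k ∈ φ.range)
  obtain ⟨a, a1, a2⟩ := (h.fus k1).resolve_left k2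
  obtain ⟨l, e⟩ := h.exists_cj a1
  exact ⟨φ l * g, by rw [← e, a2, k1]; group⟩

end St

end Cfsg.Agent.B2E
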