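import Mathlib
import Cfsg.Agent.B2E.Fus
import Cfsg.Agent.Gr.PInjE

/-! The centraliser of a transposition of `Fi₂₂` inside the centraliser of the four-group. -/

set_option autoImplicit false

namespace Cfsg.Agent.B2E

open Subgroup Cfsg.Agent.Spor Cfsg.Agent.Spor.TT Cfsg.Agent.Gr Cfsg.Agent.Gr.OG Cfsg.Agent.Gr6B
open Cfsg.Spor (Fi22)

attribute [local irreducible] t0 s0 y3 zz

variable {d x u v w n : K}

/-- A group `⟨d, x⟩ ≅ S₃` whose centraliser has the transpositions `t0, s0, y3`. -/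
structure Cf (d x : K) : Prop where
  good : Good x
  s3 : S3P d x
  t : t0 ∈ D3 d x
  s : s0 ∈ D3 d x
  y : y3 ∈ D3 d x

theorem exists_cf : ∃ d x, Cf d x :=
  let ⟨d, x, c⟩ := exists_cfg; ⟨d, x, c.good, c.s3, c.t, c.s, c.y⟩

theorem eq_one_of_comm (s : S3P d x) (h : u ∈ zpowers x) (c : Commute d u) : u = 1 := by
  obtain ⟨i, rfl⟩ := h
  have e : d * x * d⁻¹ = x⁻¹ := by rw [DD_inv s.mem, s.inv]
  have k : (x ^ i) ^ 3 = 1 := by rw [← zpow_natCast, zpow_comm, zpow_natCast, s.cube, one_zpow]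
  have k2 : d * x ^ i * d⁻¹ = (x ^ i)⁻¹ := by rw [← conj_zpow, e, inv_zpow]
  rw [c.eq, mul_inv_cancel_right, eq_inv_iff_mul_eq_one] at k2
  rwa [pow_three', k2, one_mul] at k

namespace Cf

variable (c : Cf d x)
include c

theorem mul : Cf (d * x) x :=
  ⟨c.good, c.s3.mul, c.s3.D3_mul ▸ c.t, c.s3.D3_mul ▸ c.s, c.s3.D3_mul ▸ c.y⟩

theorem et : d ∈ Et := ⟨O1_symm c.s3.mem c.t.1, O1_symm c.s3.mem c.s.1, O1_symm c.s3.mem c.y.1⟩

theorem nn : d ∈ NN := Et_sub_NN c.et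

theorem x_CE : x ∈ CE := mem_CE.2 ⟨c.t.2, c.s.2⟩

theorem lm_eq : lm d (d * x) = 13 / 256 := GE.lm_of_cube t0_mem s0_mem c.nn c.mul.nn fun e => by
  rw [c.s3.inv, pow_succ, inv_pow, c.s3.cube, inv_one, one_mul, inv_eq_one] at e
  exact c.s3.ne e

theorem mem_NN (hu : u ∈ D3 d x) (h1 : u ≠ t0) (h2 : u ≠ s0) (c1 : Commute t0 u) (c2 : Commute s0 u) :
    u ∈ NN := ⟨c.s3.comm_O1 c.t hu h1.symm c1, c.s3.comm_O1 c.s hu h2.symm c2, fun e =>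
  c.s3.comm_not_mem c.t c.s s0_ne.symm ts_comm (by rw [mul_assoc, ← e]; exact O1_mul_DD c.s3.mem hu.1)⟩

theorem mem_MM' (hu : u ∈ CE) (h : Commute x u) : u ∈ MM t0 x := ⟨mem_cen.2 (mem_CE.1 hu).1, mem_cen.2 h⟩

theorem mem_D3 (hu : u ∈ NN) (h : Commute x u) : u ∈ D3 d x := by
  obtain ⟨Φ, p⟩ := exists_ph c.s3 c.good c.t
  have m := mem_CE.1 (NN_CE c.nn)
  have k : Commute d u := mul_inv_eq_iff_eq_mul.1 ((p.conj_d c.s3 c.t (DD_mul_self hu.1.1)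
    (c.mem_MM' (NN_CE hu) h)).resolve_right fun e => not_NN hu (e ▸ conj_mem_NN m.1.symm m.2.symm hu))
  rcases lm_of_comm c.s3.mem hu.1.1 k with e | e | e
  · exact absurd (eq_of_lm c.s3.mem hu.1.1 e ▸ h.symm) c.s3.not_comm
  · exact ⟨⟨hu.1.1, e⟩, h.symm⟩
  · exact absurd c.lm_eq (GE.not_opp t0_mem s0_mem hu c.nn (lm_symm _ _ ▸ e) c.mul.nn
      (k.symm.mul_right h.symm))

theorem s3_braid (hu : u ∈ D3 d x) (hv : v ∈ D3 d x) (n : ¬ Commute u v) : S3P u (u * v) :=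
  S3P.of_braid hu.1.1 hv.1.1 (fun e => n (e ▸ Commute.refl u)) ((c.s3.comm_or_braid hu hv).resolve_left n)

theorem mem_braid (hu : u ∈ D3 d x) (hv : v ∈ D3 d x) (n : ¬ Commute u v)
    (hw : w ∈ D3 d x) (cu : Commute w u) (cv : Commute w v) : w ∈ D3 u (u * v) :=
  (c.s3_braid hu hv n).mem_iff.2 ⟨hw.1.1, cu.symm.eq, (cu.mul_right cv).eq,
    c.s3.comm_mul_mem hu hw (fun e => n (e ▸ cv)) cu.symm.eq⟩

theorem braid (hu : u ∈ D3 d x) (hv : v ∈ D3 d x) (n : ¬ Commute u v) (u1 : u ∈ CE) (v1 : v ∈ CE)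
    (u2 : Commute y3 u) (v2 : Commute y3 v) : Cf u (u * v) :=
  ⟨c.good.of_braid c.s3 hu hv n, c.s3_braid hu hv n,
    c.mem_braid hu hv n c.t (mem_CE.1 u1).1 (mem_CE.1 v1).1,
    c.mem_braid hu hv n c.s (mem_CE.1 u1).2 (mem_CE.1 v1).2, c.mem_braid hu hv n c.y u2 v2⟩

theorem mu_eq : u ∈ GE.Mu t0 s0 d (d * x) ↔ u ∈ NN ∧ u ∈ D3 d x := by
  have := GE.mem_D3 (u := u) (a := d) (c := d * x) (by rw [DD_mul_cancel c.s3.mem]; exact c.s3) c.mul.s3.mem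
  rw [DD_mul_cancel c.s3.mem] at this
  rw [this]
  rfl

theorem trans (hu : u ∈ NN) (hu' : u ∈ D3 d x) : ∃ k ∈ CE, Commute d k ∧ Commute x k ∧ k * u * k⁻¹ = y3 := by
  obtain ⟨k, k1, k2⟩ := GE.mu_trans t0_mem s0_mem c.nn c.mul.nn c.lm_eq
    (by rw [DD_mul_cancel c.s3.mem]; exact c.good) (c.mu_eq.2 ⟨hu, hu'⟩) (c.mu_eq.2 ⟨y3_mem_NN, c.y⟩)
  have := (closure_le (CE ⊓ (centralizer {d} ⊓ centralizer {x}))).2 (fun y hy =>
    ⟨NN_CE (c.mu_eq.1 hy).1, mem_cen.2 (c.s3.comm_t (c.mu_eq.1 hy).2), mem_cen.2 (c.mu_eq.1 hy).2.2.symm⟩) k1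
  exact ⟨k, this.1, mem_cen.1 this.2.1, mem_cen.1 this.2.2, k2⟩

end Cf

/-- Lifts of the elements of `Fi₂₂` which commute with `a`. -/
structure Lo (d x : K) (a b : Fi22) (R : Fi22 → CE → Prop) : Prop where
  ha : a ∈ E22
  hb : b ∈ Dx E22 a
  ex : ∀ e, Commute a e → ∃ k, R e k
  mul : ∀ {e e' k k'}, R e k → R e' k' → R (e * e') (k * k')
  iff : ∀ {e e' k k'}, R e k → R e' k' → (e = e' ↔ (k : K) = k' ∨ (k : K) = t0 * k')
  s : R a sE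
  y : R b yE
  cm : ∀ {e k}, R e k → Commute d k ∧ Commute x k
  d1 : ∀ e ∈ Dx E22 a, ∃ k, R e k ∧ (k : K) ∈ NN
  d2 : ∀ k : CE, (k : K) ∈ NN → Commute x k → ∃ e ∈ Dx E22 a, R e k
  aut : ∀ n, N1 n → Commute x n → ∃ β : MulAut Fi22, β a = a ∧
    (∀ e k (k' : CE), R e k → (k' : K) = n * k * n⁻¹ → R (β e) k') ∧
    (β = 1 ∨ β = MulAut.conj a → ∃ y ∈ zpowers x, ∃ e, Fo e ∧ n = e * y)

theorem conj_aux {M : Type*} [Group M] (Φ : M →* MulAut Fi22) (N k : M) {e : Fi22}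
    (h : Φ k = MulAut.conj e) : Φ (N * k * N⁻¹) = MulAut.conj (Φ N e) := by
  rw [map_mul, map_mul, map_inv, h, S5473.conj_conj]

theorem Cf.exists_lo (c : Cf d x) : ∃ a b R, Lo d x a b R := by
  obtain ⟨Φ, h⟩ := exists_ph c.s3 c.good c.t
  obtain ⟨a, b, p⟩ := h.exists_px c.s3 c.t c.s c.y
  have s := c.s3
  have dt : Commute d t0 := s.comm_t c.t
  let τ : MM t0 x := ⟨t0, mem_MM c.t rfl⟩
  let σ : MM t0 x := ⟨s0, mem_MM c.s ts_comm⟩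
  have τ1 : Φ τ = 1 := (h.ker _).2 (Or.inr (tt0 ▸ one_mem _))
  have ce : ∀ k : MM t0 x, Commute d k → Commute (Φ k) (MulAut.conj a) → (k : K) ∈ CE := fun k k1 k2 =>
    mem_CE.2 ⟨mem_cen.1 k.2.1, (mul_inv_eq_iff_eq_mul.1 (h.inj s c.t (u := σ) (v := k * σ * k⁻¹) c.s
      (s.conj_mem c.s k1.symm (mem_cen.1 k.2.2).symm) s0_ne (by
        rw [map_mul, map_mul, map_inv, p.map_s σ rfl, k2.eq, mul_inv_cancel_right]))).symm⟩
  refine ⟨a, b, fun e k => ∃ m : (k : K) ∈ MM t0 x, Commute d k ∧ Φ ⟨k, m⟩ = MulAut.conj e, p.ha, p.hb,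
    fun e he => ?_, fun ⟨m, m1, m2⟩ ⟨l, l1, l2⟩ => ⟨mul_mem m l, m1.mul_right l1, ?_⟩,
    fun {e e' k k'} ⟨m, m1, m2⟩ ⟨l, l1, l2⟩ => ⟨fun q => ?_, fun q => ?_⟩,
    ⟨σ.2, s.comm_t c.s, p.map_s _ rfl⟩, ⟨mem_MM c.y InnB.c_t0.symm, s.comm_t c.y, p.map_y _ rfl⟩,
    fun ⟨m, m1, _⟩ => ⟨m1, mem_cen.1 m.2⟩, fun e he => ?_, fun k k1 k2 => ?_, fun n n1 n2 => ?_⟩
  · obtain ⟨k, hk⟩ := h.surj (MulAut.conj e)
    have m := h.inn k ⟨e, hk.symm⟩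
    generalize hw : d * k * d⁻¹ * (k : K)⁻¹ = w at m
    have m1 : w ∈ MM t0 x := zpowers_le.2 (c.mem_MM' c.x_CE (Commute.refl x)) m
    have m2 : Φ ((⟨w, m1⟩ : MM t0 x)⁻¹ * k) = MulAut.conj e := by
      rw [map_mul, map_inv, (h.ker _).2 (Or.inl m), inv_one, one_mul, hk]
    have m3 : Commute d (w⁻¹ * k) := by
      obtain ⟨i, rfl⟩ := m
      have e : d * x * d⁻¹ = x⁻¹ := by rw [DD_inv s.mem, s.inv]
      have k3 : (x ^ i) ^ 3 = 1 := by rw [← zpow_natCast, zpow_comm, zpow_natCast, s.cube, one_zpow]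
      refine mul_inv_eq_iff_eq_mul.1 ?_
      rw [conj_mul', eq_mul_of_mul_inv_eq hw, ← conj_inv, ← conj_zpow, e, inv_zpow, inv_inv, ← mul_assoc,
        mul_left_inj, eq_inv_iff_mul_eq_one, ← pow_three', k3]
    exact ⟨⟨_, ce _ m3 (m2 ▸ he.symm.map _)⟩, _, m3, m2⟩
  · rw [map_mul, ← m2, ← l2, ← map_mul]; rfl
  · have := (h.ker (⟨k, m⟩ * ⟨k', l⟩⁻¹)).1 (by rw [map_mul, map_inv, m2, l2, q, mul_inv_cancel])
    refine this.imp (fun r => mul_inv_eq_one.1 (eq_one_of_comm s r (m1.mul_right l1.inv_right))) fun r => ?_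
    have := eq_one_of_comm s r (dt.mul_right (m1.mul_right l1.inv_right))
    rw [← DD_mul_cancel t0_mem (k : K), mul_left_cancel_iff, ← mul_inv_eq_one, mul_assoc]
    exact this
  · refine S5473.conj_inj g22_E22 ?_
    rw [← m2, ← l2]
    rcases q with q | q
    · exact congrArg Φ (Subtype.ext q)
    · rw [show (⟨k, m⟩ : MM t0 x) = τ * ⟨k', l⟩ from Subtype.ext q, map_mul, τ1, one_mul]
  · obtain ⟨k, k1, k2, k3⟩ := h.sur e he.1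
    have m := ce k (s.comm_t k1) (k3 ▸ he.2.2.symm.map _)
    exact ⟨⟨k, m⟩, ⟨k.2, s.comm_t k1, k3⟩, c.mem_NN k1 k2
      (fun n => he.2.1 (S5473.conj_inj g22_E22 (k3.symm.trans (p.map_s k n)))) (mem_CE.1 m).1 (mem_CE.1 m).2⟩
  · have m := c.mem_D3 k1 k2
    obtain ⟨e, he, q⟩ := h.mem ⟨k, c.mem_MM' k.2 k2⟩ m (O1_ne t0_mem k1.1)
    refine ⟨e, ⟨he, fun n => O1_ne s0_mem.1 k1.2.1 (h.inj s c.t (u := σ) c.s m s0_ne
      ((p.map_s σ rfl).trans (n ▸ q.symm))), comm_of_conj ?_⟩, _, s.comm_t m, q⟩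
    rw [← q, ← p.map_s σ rfl]
    exact Commute.map (show Commute σ ⟨k, c.mem_MM' k.2 k2⟩ from Subtype.ext (mem_CE.1 k.2).2.eq) Φ
  · let N : MM t0 x := ⟨n, mem_cen.2 n1.1, mem_cen.2 n2⟩
    refine ⟨Φ N, S5473.conj_inj g22_E22 ?_, fun e k k' ⟨m, m1, m2⟩ q =>
      ⟨by rw [q]; exact mul_mem (mul_mem N.2 m) (inv_mem N.2), ?_, ?_⟩,
      fun q => ?_⟩
    · rw [← S5473.conj_conj, ← p.map_s σ rfl, ← map_inv, ← map_mul, ← map_mul]
      rcases n1.2 with q | q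
      · exact congrArg Φ (Subtype.ext q)
      · rw [show N * σ * N⁻¹ = τ * σ from Subtype.ext q, map_mul, τ1, one_mul]
    · have xk : ∀ y ∈ zpowers x, Commute y k := fun y hy => (mem_cen.1 (zpowers_le.2 (mem_cen.2
        (mem_cen.1 m.2).symm) hy)).symm
      have w : Commute (d * n⁻¹ * d⁻¹ * n⁻¹⁻¹) k := (h.dd N⁻¹).elim (xk _) fun r => by
        have := (mem_cen.1 m.1).mul_left (xk _ r)
        rwa [DD_mul_cancel t0_mem] at this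
      have := (commute_cj (g := n)).2 (m1.inv_left.mul_left w).inv_left
      simpa [q, cj_def, mul_assoc] using this
    · exact (congrArg Φ (Subtype.ext q : _ = N * ⟨k, m⟩ * N⁻¹)).trans (conj_aux Φ N _ m2)
    · rcases q with q | q
      · rcases (h.ker N).1 q with r | r
        · exact ⟨_, r, 1, Or.inl rfl, (one_mul _).symm⟩
        · exact ⟨_, r, t0, Or.inr (Or.inl rfl), (DD_mul_cancel t0_mem _).symm⟩
      · rcases (h.ker (σ * N)).1 (by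
          rw [map_mul, q, p.map_s σ rfl, ← map_mul, fis_E22.set.mul_self p.ha, map_one]) with r | r
        · exact ⟨_, r, s0, Or.inr (Or.inr (Or.inl rfl)), (DD_mul_cancel s0_mem.1 _).symm⟩
        · exact ⟨_, r, t0 * s0, Or.inr (Or.inr (Or.inr rfl)), by
            rw [coe_mul, ← mul_assoc t0, DD_mul_cancel (O1_mul_DD t0_mem s0_mem)]⟩

/-- The centraliser of the four-group is transitive on triangles with an opposite pair. -/
theorem Cf.tri_trans (c : Cf d x) (hu : u ∈ Et) (hv : v ∈ Et) (h : lm u v = 13 / 256) :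
    ∃ k ∈ CE, k * u * k⁻¹ = d ∧ k * v * k⁻¹ = d * x ∧ Commute y3 k := by
  have key : ∀ {u v}, u ∈ NN → v ∈ NN → lm u v = 13 / 256 → ∃ k ∈ CE, k * u * k⁻¹ = y3 ∧
      k * v * k⁻¹ ∈ NN ∧ lm y3 (k * v * k⁻¹) = 13 / 256 := fun hu hv h =>
    let ⟨k, k1, k2, k3⟩ := NN_trans hu
    ⟨k, GenH.mem_cent2.2 ⟨k1, k2⟩, k3, conj_mem_NN k1 k2 hv, by rw [← k3, lm_cj _ hu.1.1 hv.1.1, h]⟩
  obtain ⟨k, k1, k2, k3, k4⟩ := key (Et_sub_NN hu) (Et_sub_NN hv) h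
  obtain ⟨l, l1, l2, l3, l4⟩ := key c.nn c.mul.nn c.lm_eq
  obtain ⟨q, q1, q2⟩ := GE.opp_trans k3 k4 l3 l4
  have q3 := GE.Q0_comm q1
  have m : l⁻¹ * q * k ∈ CE := mul_mem (mul_mem (inv_mem l1) (GenH.mem_cent2.2 ⟨q3.1, q3.2.1⟩)) k1
  have e1 : l⁻¹ * q * k * u * (l⁻¹ * q * k)⁻¹ = d := by
    rw [← conj_conj, k2, ← conj_conj, conj_eq_of_comm q3.2.2, ← l2]; group
  have e2 : l⁻¹ * q * k * v * (l⁻¹ * q * k)⁻¹ = d * x := by
    rw [← conj_conj, ← conj_conj, q2]; group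
  generalize l⁻¹ * q * k = g at m e1 e2
  have m1 := mem_CE.1 m
  obtain ⟨r, r1, r2, r3, r4⟩ := c.trans (conj_mem_NN m1.1.symm m1.2.symm y3_mem_NN) (c.mu_eq.1 ⟨
    conj_mem_NN m1.1.symm m1.2.symm y3_mem_NN,
    e1 ▸ (mem_O1_conj g hu.1.1).2 (O1_symm y3_mem hu.2.2),
    e2 ▸ (mem_O1_conj g hv.1.1).2 (O1_symm y3_mem hv.2.2)⟩).2
  refine ⟨r * g, mul_mem r1 m, by rw [← conj_conj, e1, conj_eq_of_comm r2.symm],
    by rw [← conj_conj, e2, conj_eq_of_comm (r2.mul_left r3).symm], ?_⟩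
  rw [conj_conj] at r4
  exact (mul_inv_eq_iff_eq_mul.1 r4).symm

theorem et_of_opp (hu : u ∈ NN) (hv : v ∈ NN) (c1 : Commute y3 u) (c2 : Commute y3 v)
    (h : lm u v = 13 / 256) : u ∈ Et := by
  rcases lm_of_comm y3_mem hu.1.1 c1 with e | e | e
  · rw [← eq_of_lm y3_mem hu.1.1 e] at h
    rcases lm_of_comm y3_mem hv.1.1 c2 with e | e | e <;> norm_num [e] at h
  · exact ⟨hu.1, hu.2.1, hu.1.1, e⟩
  · have m := mem_CE.1 (NN_CE hv)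
    exact absurd h (GE.not_opp0 (GE.col_QK hu e) hu.1.1 hv.1.1 (tri_prod ▸ (m.1.mul_left m.2).mul_left c2))

end Cfsg.Agent.B2E
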