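import Mathlib
import Cfsg.Agent.B2E.Lo
import Cfsg.Agent.B2E.Lc

/-! An element which interchanges two commuting conjugates of `t`. -/

set_option autoImplicit false

namespace Cfsg.Agent.B2E

open Subgroup Cfsg.Agent.Spor Cfsg.Agent.Spor.TT Cfsg.Agent.Gr Cfsg.Agent.Gr.OG Cfsg.Agent.Gr6B
open Cfsg.Spor (Fi22)

attribute [local irreducible] t0 s0 y3 zz

variable {G : Type*} [Group G] {t c g m : G} {φ : CE →* G} {d x k n : CE} {a b e : Fi22}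
  {R : Fi22 → CE → Prop} {δ ξ : K}

theorem gcc (g k x : G) : g * (k * x * k⁻¹) * g⁻¹ = g * k * x * (g * k)⁻¹ := by group

/-- The subgroup of index two in the centraliser of `g * t * g⁻¹`. -/
noncomputable abbrev Mg (φ : CE →* G) (g : G) : Subgroup G := ((MulAut.conj g).toMonoidHom.comp φ).range

theorem mem_Mg : c ∈ Mg φ g ↔ g⁻¹ * c * g ∈ φ.range :=
  ⟨fun ⟨k, e⟩ => ⟨k, by simp [← e, mul_assoc]⟩, fun ⟨k, e⟩ => ⟨k, by simp [e, mul_assoc]⟩⟩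

open Classical in
/-- A chosen lift. -/
noncomputable def lf (R : Fi22 → CE → Prop) (e : Fi22) : CE := if h : ∃ k, R e k then h.choose else 1

namespace Lo

variable (o : Lo δ ξ a b R)
include o

theorem spec (he : Commute a e) : R e (lf R e) := by
  rw [lf, dif_pos (o.ex e he)]
  exact (o.ex e he).choose_spec

theorem cm' (e : Fi22) : Commute δ (lf R e) ∧ Commute ξ (lf R e) := by
  rw [lf]
  split_ifs with h
  exacts [o.cm h.choose_spec, ⟨Commute.one_right _, Commute.one_right _⟩]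

theorem f_eq (h : St t φ) (r : R e k) : φ (lf R e) = φ k := by
  rw [lf, dif_pos ⟨k, r⟩]
  exact h.eq_iff.2 ((o.iff (Exists.choose_spec (p := R e) ⟨k, r⟩) r).1 rfl)

theorem em (h : St t φ) : Em a fun e => φ (lf R e) :=
  ⟨fun _ _ k l => (o.f_eq h (o.mul (o.spec k) (o.spec l))).trans (map_mul _ _ _),
    fun _ _ k l q => (o.iff (o.spec k) (o.spec l)).2 (h.eq_iff.1 q)⟩

theorem et (h : St t φ) (c : Cf δ ξ) (he : e ∈ Dx E22 a ∩ Dx E22 b) :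
    ∃ k : CE, (k : K) ∈ Et ∧ φ k = φ (lf R e) := by
  obtain ⟨k, k1, k2⟩ := o.d1 e he.1
  have q := ((o.em h).commute_iff he.1.2.2 o.hb.2.2).2 he.2.2.2.symm
  rw [o.f_eq h k1, o.f_eq h o.y] at q
  exact ⟨k, ⟨k2.1, k2.2.1, c.s3.comm_O1 c.y (c.mem_D3 k2 (o.cm k1).2)
    (fun q => he.2.2.1 ((o.iff k1 o.y).2 (Or.inl q.symm)))
    (congrArg Subtype.val (h.comm_NN y3_mem_NN q).symm.eq)⟩, (o.f_eq h k1).symm⟩

end Lo

namespace St

variable (h : St t φ)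
include h

theorem conj_mem (hc : Commute t c) (hm : m ∈ φ.range) : c * m * c⁻¹ ∈ φ.range := by
  obtain ⟨k, rfl⟩ := hm
  obtain ⟨n, n1, n2⟩ := h.ind c hc
  exact ⟨_, (n2 k ⟨_, n1.mem k⟩ rfl).symm⟩

theorem yy (hn : (n : K) ∈ NN) : φ n * φ n = 1 := by
  rw [← map_mul, h.ker]
  exact Or.inl (DD_mul_self hn.1.1)

theorem comm_y (hk : Commute y3 k) : Commute (φ yE) (φ k) :=
  Commute.map (show Commute yE k from Subtype.ext hk.eq) φ

theorem z_mem (e : g * t * g⁻¹ = φ yE) : φ zE ∈ Mg φ g := by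
  have c1 := InnB.card_Q0
  obtain ⟨q, q1, q2⟩ := exists_sq_zz (T := InnB.Q0) (fun q hq => (InnB.mem_Q0.1 hq).1) (by omega)
  have q3 := GE.Q0_comm q1
  have := (h.conj g).sq_mem (c := φ ⟨q, GenH.mem_cent2.2 ⟨q3.1, q3.2.1⟩⟩) (e ▸ h.comm_y q3.2.2.symm)
  rwa [← map_mul, show (⟨q, _⟩ * ⟨q, _⟩ : CE) = zE from Subtype.ext q2] at this

theorem t_mem (e : g * t * g⁻¹ = φ yE) : t ∈ Mg φ g := by
  have := mul_mem (h.z_mem e) (⟨sE, (h.conj g).map_s⟩ : g * t * g⁻¹ ∈ Mg φ g)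
  rwa [e, ← h.tri, mul_assoc, h.yy y3_mem_NN, mul_one] at this

/-- The conjugates of `t` in the double cover which belongs to another conjugate. -/
theorem pull {u : G} (hm : u * t * u⁻¹ ∈ Mg φ g) (ne : u * t * u⁻¹ ≠ g * t * g⁻¹) :
    ∃ n : CE, (n : K) ∈ NN ∧ g * φ n * g⁻¹ = u * t * u⁻¹ := by
  obtain ⟨k, hk⟩ := mem_Mg.1 hm
  obtain ⟨n, n1, n2⟩ := (h.fus (g := g⁻¹ * u) (hk.trans (by group))).resolve_left
    fun q => ne (by nth_rw 2 [q.symm.trans hk]; group)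
  exact ⟨n, n1, by rw [n2, hk]; group⟩

theorem swap0 (e : g * t * g⁻¹ = φ yE) : ∃ g, g * t * g⁻¹ = φ yE ∧ g * φ yE * g⁻¹ = t := by
  obtain ⟨n, n1, n2⟩ := h.pull (u := 1) (by simpa using h.t_mem e)
    (by simpa [e] using (h.ne_t y3_mem_NN).symm)
  obtain ⟨l, q⟩ := h.exists_cj n1
  refine ⟨g * (φ l)⁻¹, ?_, ?_⟩
  · rw [← gcc, (h.comm l).inv_right.symm.mul_inv_cancel, e]
  · rw [← q, gcc, inv_mul_cancel_right, n2, one_mul, inv_one, mul_one]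

theorem et_mem (e : g * t * g⁻¹ = φ yE) (hn : (n : K) ∈ Et) : φ n ∈ Mg φ g := by
  by_contra nm
  have all : ∀ k : CE, (k : K) ∈ Et → Commute (g * t * g⁻¹) (φ k) ∧ φ k ∉ Mg φ g := fun k hk => by
    refine ⟨e ▸ h.comm_y (O1_comm y3_mem hk.2.2), fun m => nm ?_⟩
    obtain ⟨l, l1, l2⟩ := Et_trans hk hn
    have l3 := mem_SS'.1 l1
    have := (h.conj g).conj_mem (c := φ ⟨l, GenH.mem_cent2.2 ⟨l3.1, l3.2.1⟩⟩)
      (e ▸ h.comm_y l3.2.2.symm) m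
    rwa [← map_inv, ← map_mul, ← map_mul, show (⟨l, _⟩ * k * ⟨l, _⟩⁻¹ : CE) = n from Subtype.ext l2] at this
  obtain ⟨d, x, c⟩ := exists_cf
  obtain ⟨a, b, R, o⟩ := c.exists_lo
  obtain ⟨-, l, l1, l2, l3⟩ := A22.exists_five g22_E22 o.ha o.hb
  have p := (o.em h).prod (l := l) fun e he => (l1.mem e he).1.2.2
  have q : ∀ e ∈ l, Commute (g * t * g⁻¹) (φ (lf R e)) ∧ φ (lf R e) ∉ Mg φ g := fun e he =>
    let ⟨k, k1, k2⟩ := o.et h c (l1.mem e he); k2 ▸ all k k1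
  rw [l3, o.f_eq h (o.mul o.s o.y), map_mul, h.map_s, h.tri] at p
  match l, l2 with
  | [e1, e2, e3, e4, e5], _ =>
    simp only [List.forall_mem_cons, List.map_cons, List.map_nil, List.prod_cons, List.prod_nil,
      mul_one] at p q
    obtain ⟨⟨a1, b1⟩, ⟨a2, b2⟩, ⟨a3, b3⟩, ⟨a4, b4⟩, ⟨-, b5⟩, -⟩ := q
    have := h.z_mem e
    rw [p, ← mul_assoc, mul_mem_cancel_left ((h.conj g).idx _ _ a1 a2 b1 b2), ← mul_assoc,
      mul_mem_cancel_left ((h.conj g).idx _ _ a3 a4 b3 b4)] at this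
    exact b5 this

theorem cj_NN (e : g * t * g⁻¹ = φ yE) (hn : (n : K) ∈ NN) : ∃ u, u * t * u⁻¹ = φ n :=
  let ⟨l, q⟩ := h.exists_cj hn; ⟨(φ l)⁻¹ * g, by rw [← gcc, e, ← q]; group⟩

theorem pull_et (e : g * t * g⁻¹ = φ yE) (e' : g * φ yE * g⁻¹ = t) (hn : (n : K) ∈ Et) :
    ∃ k : CE, (k : K) ∈ NN ∧ Commute y3 k ∧ g * φ k * g⁻¹ = φ n := by
  obtain ⟨u, hu⟩ := h.cj_NN e (Et_sub_NN hn)
  obtain ⟨k, k1, k2⟩ := h.pull (u := u) (hu ▸ h.et_mem e hn) fun q => O1_ne y3_mem hn.2.2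
    (congrArg Subtype.val (h.inj_NN (b := yE) (Et_sub_NN hn) y3_mem_NN (by rw [← hu, q, e])))
  refine ⟨k, k1, commute_coe.2 (h.comm_NN (k := k) (a := yE) y3_mem_NN ((commute_cj (g := g)).1 ?_)).symm,
    k2.trans hu⟩
  rw [cj_def, cj_def, e', k2, hu]
  exact (h.comm n).symm

theorem exists_swap (e : g * t * g⁻¹ = φ yE) (c : Cf (d : K) x) :
    ∃ g, g * t * g⁻¹ = φ yE ∧ g * φ yE * g⁻¹ = t ∧ Commute (φ d) g ∧ Commute (φ x) g := by
  obtain ⟨g, e, e'⟩ := h.swap0 e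
  obtain ⟨u, u1, u2, u3⟩ := h.pull_et e e' c.et
  obtain ⟨v, v1, v2, v3⟩ := h.pull_et e e' (n := d * x) c.mul.et
  have l : lm (u : K) v = 13 / 256 := GE.lm_of_cube t0_mem s0_mem u1 v1 fun q => by
    have q1 : (φ (d * x) * φ d) ^ 4 = 1 := by
      rw [← u3, ← v3, conj_mul, conj_pow, ← map_mul, ← map_pow,
        show (v * u) ^ 4 = 1 from Subtype.ext q, map_one, mul_one, mul_inv_cancel]
    have q2 : (d * x * d) ^ 3 = 1 := Subtype.ext (by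
      rw [coe_pow, coe_mul, coe_mul, c.s3.inv, inv_pow, c.s3.cube, inv_one, coe_one])
    rw [← map_mul, ← map_pow, pow_succ, q2, one_mul, map_mul, mul_eq_one_iff_eq_inv,
      inv_eq_of_mul_eq_one_right (h.yy c.nn)] at q1
    exact c.s3.ne (congrArg Subtype.val (mul_eq_left.1 (h.inj_NN c.mul.nn c.nn q1)))
  obtain ⟨k, k1, k2, k3, k4⟩ := c.tri_trans (et_of_opp u1 v1 u2 v2 l)
    (et_of_opp v1 u1 v2 u2 (lm_symm _ _ ▸ l)) l
  have key : ∀ {p q : CE}, k * p * k⁻¹ = q → g * φ p * g⁻¹ = φ q →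
      Commute (φ q) (g * (φ ⟨k, k1⟩)⁻¹) := fun {p q} r1 r2 => (mul_inv_eq_iff_eq_mul.1 (by
    nth_rw 1 [show q = ⟨k, k1⟩ * p * ⟨k, k1⟩⁻¹ from Subtype.ext r1.symm]
    rw [map_mul, map_mul, map_inv, gcc, inv_mul_cancel_right, r2])).symm
  have c1 := key k2 u3
  refine ⟨g * (φ ⟨k, k1⟩)⁻¹, ?_, ?_, c1, ?_⟩
  · rw [← gcc, (h.comm _).inv_right.symm.mul_inv_cancel, e]
  · rw [← gcc, (h.comm_y (k := ⟨k, k1⟩) k4).inv_right.symm.mul_inv_cancel, e']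
  · have := c1.mul_left (key (q := d * x) k3 v3)
    rwa [map_mul, ← mul_assoc, h.yy c.nn, one_mul] at this

end St

end Cfsg.Agent.B2E
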