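import Mathlib
import Cfsg.Agent.B2E.Sw

/-! The subgroup `Fi₂₂` in the centraliser of an element of order three. -/

set_option autoImplicit false

namespace Cfsg.Agent.B2E

open Subgroup Cfsg.Agent.Spor Cfsg.Agent.Spor.TT Cfsg.Agent.Gr Cfsg.Agent.Gr.OG Cfsg.Agent.Gr6B
open Cfsg.Spor (Fi22)

attribute [local irreducible] t0 s0 y3 zz

variable {G : Type*} [Group G] {t c g u v w y : G} {φ : CE →* G} {d x k n : CE} {a b e : Fi22}
  {R : Fi22 → CE → Prop} {ν : K}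

/-- The conjugates of `t` under the centraliser of `y`. -/
def DS (t y : G) : Set G := {v | ∃ g, Commute y g ∧ v = cj g t}

theorem DS.self : t ∈ DS t y := ⟨1, Commute.one_right _, (cj_one _).symm⟩

theorem DS.cj (hv : v ∈ DS t y) (hg : Commute y g) : cj g v ∈ DS t y :=
  let ⟨k, k1, k2⟩ := hv; ⟨g * k, hg.mul_right k1, by rw [k2, cj_cj]⟩

theorem DS.comm (hv : v ∈ DS t y) (h : Commute y t) : Commute y v :=
  let ⟨_, k1, k2⟩ := hv; k2 ▸ commute_cj_of_commute k1 h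

/-- The images of the chosen lifts, in the centraliser of `φ x`. -/
noncomputable def Lo.fX (o : Lo d x a b R) (φ : CE →* G) (e : Fi22) : centralizer ({φ x} : Set G) :=
  ⟨φ (lf R e), mem_centralizer_singleton_iff.2 ((commute_coe.1 (o.cm' e).2).map φ).symm.eq⟩

theorem Lo.emX (o : Lo d x a b R) (h : St t φ) : Em a (o.fX φ) :=
  ⟨fun _ _ k l => Subtype.ext ((o.em h).mul _ _ k l),
    fun _ _ k l q => (o.em h).inj _ _ k l (congrArg Subtype.val q)⟩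

theorem Lo.exists_prod (o : Lo d x a b R) (c : Commute t0 ν) {l : List Fi22}
    (h : ∀ e ∈ l, ∃ k, R e k ∧ ν * k * ν⁻¹ = t0 * k) :
    ∃ k, R l.prod k ∧ ν * k * ν⁻¹ = t0 ^ l.length * k := by
  induction l with
  | nil => exact ⟨sE * sE, List.prod_nil.trans (fis_E22.set.mul_self o.ha).symm ▸ o.mul o.s o.s, by
      rw [show ((sE * sE : CE) : K) = 1 from ss0]; simp⟩
  | cons e l ih =>
    obtain ⟨k, k1, k2⟩ := h e List.mem_cons_self
    obtain ⟨p, p1, p2⟩ := ih fun e he => h e (List.mem_cons_of_mem _ he)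
    refine ⟨k * p, by rw [List.prod_cons]; exact o.mul k1 p1, ?_⟩
    rw [coe_mul, conj_mul', k2, p2, List.length_cons, pow_succ', mul_assoc, mul_assoc,
      ((mem_CE.1 k.2).1.pow_left _).left_comm]

namespace St

variable (h : St t φ) (f : Cf (d : K) x)
include h f

theorem comm_x (n1 : N1 ν) (n2 : As φ c ν) (hc : Commute (φ x) c) : Commute (x : K) ν := by
  have k := (n2 x ⟨_, n1.mem x⟩ rfl).symm.trans hc.symm.mul_inv_cancel
  refine (mul_inv_eq_iff_eq_mul.1 ((h.eq_iff.1 k).resolve_right fun k => DD_ne_one t0_mem ?_)).symm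
  have := congrArg (· ^ 3) (show ν * x * ν⁻¹ = t0 * x from k)
  simpa [(mem_CE.1 x.2).1.mul_pow, f.s3.cube, pow_three' t0, tt0, eq_comm] using this

theorem nn_mem (e : g * t * g⁻¹ = φ yE) (cd : Commute (φ d) g) (cx : Commute (φ x) g) (hn : (n : K) ∈ NN)
    (c : Commute x n) : ∃ g, Commute (φ d) g ∧ Commute (φ x) g ∧ φ n = cj g t := by
  obtain ⟨k, k1, k2, k3, k4⟩ := f.trans hn (f.mem_D3 hn (commute_coe.2 c))
  refine ⟨(φ ⟨k, k1⟩)⁻¹ * g, ((commute_coe.1 k2).map φ).inv_right.mul_right cd,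
    ((commute_coe.1 k3).map φ).inv_right.mul_right cx, ?_⟩
  rw [← cj_cj, cj_def g, e, show yE = cj ⟨k, k1⟩ n from Subtype.ext k4.symm, map_cj, cj_inv_cj]

omit f in
theorem inner (hv : v ∈ DS t (φ x)) (ne : v ≠ t) (m : v ∈ φ.range) :
    ∃ n : CE, (n : K) ∈ NN ∧ Commute x n ∧ φ n = v := by
  obtain ⟨k, rfl⟩ := m
  have c := DS.comm hv (h.comm x).symm
  obtain ⟨g, -, q⟩ := hv
  obtain ⟨n, n1, n2⟩ := (h.fus q).resolve_left ne
  exact ⟨n, n1, h.comm_NN n1 (n2 ▸ c), n2⟩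

variable (o : Lo d x a b R)
include o

omit f in
theorem inner' (hv : v ∈ DS t (φ x)) (ne : v ≠ t) (m : v ∈ φ.range) : ∃ e ∈ Dx E22 a, φ (lf R e) = v :=
  let ⟨n, n1, n2, n3⟩ := h.inner hv ne m
  let ⟨e, he, r⟩ := o.d2 n n1 (commute_coe.2 n2)
  ⟨e, he, (o.f_eq h r).trans n3⟩

omit f in
theorem three (hu : t * u ∈ DS t (φ x)) (hv : t * v ∈ DS t (φ x)) (hw : t * (u * v) ∈ DS t (φ x))
    (mu : u ∈ φ.range) (mv : v ∈ φ.range) (c : Commute u v) (u1 : u ≠ 1) (v1 : v ≠ 1)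
    (w1 : u * v ≠ 1) : False := by
  have m0 : t ∈ φ.range := ⟨sE, h.map_s⟩
  have ct : Commute t u := let ⟨k, q⟩ := mu; q ▸ h.comm k
  have ct' : Commute t v := let ⟨k, q⟩ := mv; q ▸ h.comm k
  obtain ⟨p, hp, p1⟩ := h.inner' o hu (mt mul_eq_left.1 u1) (mul_mem m0 mu)
  obtain ⟨q, hq, q1⟩ := h.inner' o hv (mt mul_eq_left.1 v1) (mul_mem m0 mv)
  obtain ⟨r, hr, r1⟩ := h.inner' o hw (mt mul_eq_left.1 w1) (mul_mem m0 (mul_mem mu mv))
  have m := o.em h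
  have k : a * p * q = r := m.inj _ _ (((Commute.refl a).mul_right hp.2.2).mul_right hq.2.2) hr.2.2 (by
    rw [m.mul _ _ ((Commute.refl a).mul_right hp.2.2) hq.2.2, m.mul _ _ (Commute.refl a) hp.2.2, p1, q1, r1,
      o.f_eq h o.s, h.map_s, ← mul_assoc t t, h.tt, one_mul, ct.left_comm])
  refine three22 g22_E22 ⟨o.ha, hp.1, hq.1, hp.2.1.symm, hq.2.1.symm, fun e => hr.2.1 ?_, hp.2.2, hq.2.2,
    (m.commute_iff hp.2.2 hq.2.2).1 ?_⟩ (k ▸ hr.1)
  · rw [← k, e, mul_assoc, fis_E22.set.mul_self hq.1, mul_one]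
  · rw [p1, q1]
    exact ((Commute.refl t).mul_right ct').mul_left (ct.symm.mul_right c)

theorem mem_of_DS (hu : u ∈ DS t (φ x)) (c : Commute t u) : u ∈ φ.range := by
  by_contra m
  obtain ⟨ν, n1, n2, n3⟩ := h.out c m
  obtain ⟨β, b1, b2, -⟩ := o.aut ν n1 (h.comm_x f n1 n3 (DS.comm hu (h.comm x).symm))
  obtain ⟨g, g1, g2⟩ := id hu
  have uu : u * u = 1 := by rw [g2, ← cj_mul, h.tt, cj_one_right]
  have tr : ∀ {w}, u * w ∈ DS t (φ x) → t * cj g⁻¹ w ∈ DS t (φ x) := fun k => by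
    simpa only [g2, cj_mul, cj_inv_cj] using DS.cj k g1.inv_right
  have mg : ∀ {w}, w ∈ Mg φ g → cj g⁻¹ w ∈ φ.range := fun k => by simpa [cj_def] using mem_Mg.1 k
  have ne : ∀ {w : G}, w ≠ 1 → cj g⁻¹ w ≠ 1 := fun k q => k (cj_inj.1 (q.trans (cj_one_right _).symm))
  obtain ⟨l, l1, l2, l3, l4⟩ := exists_fixed (D := DS t (φ x)) (N := Mg φ g) g22_E22 o.ha b1 (o.em h) hu uu
    (fun e he => by
      rw [o.f_eq h (b2 e _ ⟨_, n1.mem _⟩ (o.spec he) rfl), ← n3 _ _ rfl, inv_eq_of_mul_eq_one_right uu])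
    (fun e _ v hv => DS.cj hv ((commute_coe.1 (o.cm' e).2).map φ))
    (fun p q cp cq => (h.conj g).idx p q (g2.trans (cj_def _ _) ▸ cp) (g2.trans (cj_def _ _) ▸ cq))
    fun p hp q hq _ _ pq mp mq p1 q1 r1 mr => h.three o (tr mp) (tr mq) (cj_mul g⁻¹ p q ▸ tr mr) (mg hp) (mg hq)
      (commute_cj.2 pq) (ne p1) (ne q1) (cj_mul g⁻¹ p q ▸ ne r1)
  obtain ⟨k, k1, k2⟩ := o.exists_prod n1.1 (l := l) fun e he => by
    obtain ⟨k, k1, k2⟩ := o.d1 e (l1.mem e he)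
    refine ⟨k, k1, ((o.iff (b2 e k ⟨_, n1.mem k⟩ k1 rfl) k1).1 (l4 e he)).resolve_left fun q => ?_⟩
    have := conj_mem_DD ν (O1_mul_DD s0_mem.1 k2.2.1)
    rw [conj_mul', n2, show ν * k * ν⁻¹ = k from q] at this
    exact ts_mul_not k2 this
  rw [l2, show 6 = 2 * 3 from rfl, pow_mul, pow_two, tt0, one_pow, one_mul] at k2
  rcases (o.iff (l3 ▸ k1) o.s).1 rfl with q | q <;> rw [q] at k2
  · exact ts_ne (n2.symm.trans k2)
  · rw [conj_mul', conj_eq_of_comm n1.1.symm, mul_left_cancel_iff] at k2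
    exact ts_ne (n2.symm.trans k2)

theorem perp (hv : v ∈ DS t (φ x)) (c : Commute t v) :
    v = t ∨ ∃ n : CE, (n : K) ∈ NN ∧ Commute x n ∧ φ n = v :=
  (em (v = t)).imp_right fun ne => h.inner hv ne (h.mem_of_DS f o hv c)

theorem eq_one (hx : Commute (φ x) c) (hd : Commute (φ d) c) (ht : Commute t c)
    (hc : ∀ e ∈ Dx E22 a, Commute c (φ (lf R e))) : c = 1 ∨ c = t := by
  obtain ⟨ν, n1, n2⟩ := h.ind c ht
  obtain ⟨β, b1, b2, b3⟩ := o.aut ν n1 (h.comm_x f n1 n2 hx)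
  obtain ⟨y, y1, e, e1, rfl⟩ := b3 (S5473.eq_or g22_E22 o.ha b1 fun e he => (o.em h).inj _ _
    (b1 ▸ he.2.2.map β) he.2.2 (by
      rw [o.f_eq h (b2 e _ ⟨_, n1.mem _⟩ (o.spec he.2.2) rfl), ← n2 _ _ rfl, (hc e he).mul_inv_cancel]))
  have m := mem_CE.1 (mul_mem e1.mem_CE (zpowers_le.2 x.2 y1))
  have k := h.inj_NN (a := ⟨_, n1.mem d⟩) (conj_mem_NN m.1.symm m.2.symm f.nn) f.nn
    ((n2 d _ rfl).symm.trans hd.symm.mul_inv_cancel)
  have k1 : Commute (d : K) (e * y) := (mul_inv_eq_iff_eq_mul.1 (congrArg Subtype.val k)).symm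
  have k2 := (e1.comm d.2).symm.inv_right.mul_right k1
  rw [inv_mul_cancel_left] at k2
  rw [eq_one_of_comm f.s3 y1 k2, mul_one] at n2
  exact h.cen c ht fun k => mul_inv_eq_iff_eq_mul.1 (n2 k k (conj_eq_of_comm (e1.comm k.2)).symm)

end St

/-- The standard subgroup `Fi₂₂`. -/
structure Sd (t : G) (φ : CE →* G) (d x : CE) (ψ : Fi22 →* G) : Prop where
  inj : Function.Injective ψ
  cd : ∀ e, Commute (φ d) (ψ e)
  cx : ∀ e, Commute (φ x) (ψ e)
  eq : ψ '' E22 = DS t (φ x)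
  y1 : ∀ n : CE, (n : K) ∈ NN → Commute x n → φ n ∈ DS t (φ x)
  y2 : ∀ v ∈ DS t (φ x), Commute t v → v = t ∨ ∃ n : CE, (n : K) ∈ NN ∧ Commute x n ∧ φ n = v

theorem St.exists_sd [Finite G] (h : St t φ) (e : g * t * g⁻¹ = φ yE) (f : Cf (d : K) x) :
    ∃ ψ, Sd t φ d x ψ := by
  obtain ⟨g, e, -, cd, cx⟩ := h.exists_swap e f
  obtain ⟨a, b, R, o⟩ := f.exists_lo
  have mc : ∀ g : centralizer ({φ x} : Set G), Commute (φ x) g := fun g =>
    (mem_centralizer_singleton_iff.1 g.2).symm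
  let T : centralizer ({φ x} : Set G) := ⟨t, mem_centralizer_singleton_iff.2 (h.comm x).eq⟩
  let D : Set (centralizer ({φ x} : Set G)) := {v | (v : G) ∈ DS t (φ x)}
  have hT : T ∈ D := DS.self
  have inv : ∀ g, ∀ v ∈ D, cj g v ∈ D := fun g v hv => DS.cj hv (mc g)
  have cl : ∀ v ∈ D, ∃ g, v = cj g T := fun v ⟨g, g1, g2⟩ =>
    ⟨⟨g, mem_centralizer_singleton_iff.2 g1.symm.eq⟩, Subtype.ext g2⟩
  have y1 : ∀ n : CE, (n : K) ∈ NN → Commute x n → φ n ∈ DS t (φ x) := fun n n1 n2 =>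
    let ⟨_, _, k⟩ := h.nn_mem f e cd cx n1 n2; ⟨_, k⟩
  have dx : Dx D T = o.fX φ '' Dx E22 a := Set.ext fun v => ⟨fun hv => by
      have ne : (v : G) ≠ t := fun q => hv.2.1 (Subtype.ext q)
      obtain ⟨e, he, q⟩ := h.inner' o hv.1 ne (h.mem_of_DS f o hv.1 (commute_coe.2 hv.2.2))
      exact ⟨e, he, Subtype.ext q⟩, by
    rintro ⟨e, he, rfl⟩
    obtain ⟨k, k1, k2⟩ := o.d1 e he
    have q : (o.fX φ e : G) = φ k := o.f_eq h k1
    exact ⟨show _ ∈ DS _ _ from q ▸ y1 k k2 (commute_coe.1 (o.cm k1).2),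
      fun r => h.ne_t k2 (q.symm.trans (congrArg Subtype.val r)), commute_coe.1 (q ▸ h.comm k)⟩⟩
  have la : La D := la_of g22_E22 ⟨T, hT⟩ inv fun v hv => by
    obtain ⟨g, rfl⟩ := cl v hv
    refine ⟨a, o.ha, _, (o.emX h).conj g, congrArg (cj g) (Subtype.ext ((o.f_eq h o.s).trans h.map_s)), ?_⟩
    rw [← image_cj_Dx inv, dx, Set.image_image]
  have cD : ∀ v ∈ D, Commute (φ d) v := fun v hv => by
    have := la.fs.conn {v | ∃ g : centralizer ({φ x} : Set G), Commute (φ d) g ∧ v = cj g T}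
      (by rintro _ ⟨g, -, rfl⟩; exact inv g T hT) ⟨T, 1, Commute.one_right _, (cj_one _).symm⟩ (by
        rintro _ ⟨g, g1, rfl⟩ w hw c
        rcases h.perp f o (inv g⁻¹ w hw) (commute_coe.2 (commute_cj_left.1 c)) with q | ⟨n, n1, n2, q⟩
        · exact ⟨g, g1, cj_eq_iff.1 (Subtype.ext q) |>.trans (by rw [inv_inv])⟩
        · obtain ⟨k, k1, k2, k3⟩ := h.nn_mem f e cd cx n1 n2
          refine ⟨g * ⟨k, mem_centralizer_singleton_iff.2 k2.symm.eq⟩, g1.mul_right k1, ?_⟩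
          rw [← cj_cj, ← show cj g⁻¹ w = cj ⟨k, _⟩ T from Subtype.ext (q.symm.trans k3), cj_cj_inv])
    obtain ⟨g, g1, rfl⟩ := this.symm.subset hv
    exact commute_cj_of_commute g1 (h.comm d).symm
  have cD' : ∀ v ∈ closure D, Commute (φ d) v := fun v hv =>
    mem_centralizer_singleton_iff.1 ((closure_le ((centralizer {φ d}).subgroupOf _)).2
      (fun v hv => mem_centralizer_singleton_iff.2 (cD v hv).symm.eq) hv) |>.symm
  obtain ⟨ψ, p1, p2⟩ := la.exists_fi22 fun c c1 c2 => by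
    refine Subtype.ext ((h.eq_one f o (mc c) (cD' c c1) (commute_coe.2 (c2 T hT)).symm fun e he =>
      commute_coe.2 (c2 _ (dx.symm.subset ⟨e, he, rfl⟩).1)).resolve_right fun q => ?_)
    obtain ⟨v, hv⟩ := la.fs.exists_mem_Ax hT
    exact hv.2 ((Subtype.ext q : c = T) ▸ c2 v hv.1)
  refine ⟨(centralizer _).subtype.comp ψ, (centralizer _).subtype_injective.comp p1, fun e => cD' _ ?_,
    fun e => mc _, ?_, y1, fun v => h.perp f o⟩
  · exact p2 ▸ (MonoidHom.map_closure ψ E22).le (mem_map_of_mem ψ (fis_E22.group.mem_closure e))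
  · rw [MonoidHom.coe_comp, Set.image_comp, p2]
    exact Set.ext fun v => ⟨by rintro ⟨v, hv, rfl⟩; exact hv, fun hv =>
      ⟨⟨v, mem_centralizer_singleton_iff.2 (DS.comm hv (h.comm x).symm).symm.eq⟩, hv, rfl⟩⟩

end Cfsg.Agent.B2E
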