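import Mathlib
import Cfsg.Agent.B2E.Fi
import Cfsg.Agent.Gr6B.N

/-! The system of subgroups `S₃ × Fi₂₂` and the embedding of the Baby Monster. -/

set_option autoImplicit false

namespace Cfsg.Agent.B2E

open Subgroup Cfsg.Agent.Spor Cfsg.Agent.Spor.TT Cfsg.Agent.Gr Cfsg.Agent.Gr.OG Cfsg.Agent.Gr6B
open Cfsg.Spor (Fi22)

attribute [local irreducible] t0 s0 y3 zz

variable {G : Type*} [Group G] {t g p q u v : G} {φ : CE →* G} {d x k n : CE} {ψ χ : Fi22 →* G}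

theorem Cf.self_comm (c : Cf (d : K) x) (hk : (k : K) ∈ NN) (h : Commute x k) : Commute d k :=
  commute_coe.1 (c.s3.comm_t (c.mem_D3 hk (commute_coe.2 h)))

namespace Sd

variable (s : Sd t φ d x ψ)
include s

theorem tt : IsTT (DS t (φ x)) := s.eq ▸
  g22_E22.fis.isTT.image ψ fun _ he e => g22_E22.fis.set.ne_one he (s.inj (e.trans ψ.map_one.symm))

theorem mem {e : Fi22} (he : e ∈ E22) : ψ e ∈ DS t (φ x) := s.eq ▸ ⟨e, he, rfl⟩

variable (h : St t φ) (c : Cf (d : K) x)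
include h c

theorem exists_ab : ∃ a ∈ E22, ∃ b ∈ Dx E22 a, ψ a = t ∧ ψ b = φ yE := by
  obtain ⟨a, ha, ea⟩ := s.eq.symm.subset DS.self
  obtain ⟨b, hb, eb⟩ := s.eq.symm.subset (s.y1 yE y3_mem_NN (commute_coe.1 c.y.2.symm))
  exact ⟨a, ha, b, ⟨hb, fun e => h.ne_t y3_mem_NN (by rw [← eb, e, ea]),
    Commute.of_map s.inj (by rw [ea, eb]; exact h.comm _)⟩, ea, eb⟩

theorem am : Am (φ zE) (φ d) (φ (d * x)) ψ := by
  have k1 : φ d * φ (d * x) = φ x := by rw [map_mul, ← mul_assoc, h.yy c.nn, one_mul]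
  refine ⟨s.inj, h.yy c.nn, h.yy c.mul.nn, fun e => c.s3.ne (congrArg Subtype.val
    (mul_eq_left.1 (h.inj_NN c.nn c.mul.nn e).symm)), ?_, s.cd, fun e => ?_, fun g hg e he => ?_, ?_⟩
  · rw [k1, ← map_pow, h.ker]
    exact Or.inl c.s3.cube
  · rw [map_mul]
    exact (s.cd e).mul_left (s.cx e)
  · rw [s.eq] at he ⊢
    exact DS.cj he (k1 ▸ hg.symm)
  · rintro _ ⟨e, he, rfl⟩ _ ⟨e', he', rfl⟩ ne ce
    obtain ⟨a, ha, b, hb, ea, eb⟩ := s.exists_ab h c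
    obtain ⟨g, -, hg⟩ := (g22_E22.tm.tr.mono (by decide : 2 ≤ 3)).conj g22_E22.fis.isTT
      (cl_pair ha hb) (cl_pair he ⟨he', fun k => ne (congrArg ψ k.symm), ce.of_map s.inj⟩) rfl rfl
    simp only [List.map_cons, List.map_nil, List.cons.injEq, and_true] at hg
    rw [← h.tri, ← eb, ← ea, ← ψ.map_mul, ← ψ.map_mul, ← hg.1, ← hg.2, ← cj_mul, map_cj]
    exact isConj_cj _ _

omit c in
theorem mem_braid (hk : (k : K) ∈ NN) (hn : (n : K) ∈ NN) (s' : Sd t φ k (k * n) χ)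
    (hv : v ∈ DS t (φ x)) (ck : Commute v (φ k)) (cn : Commute v (φ n)) : v ∈ DS t (φ (k * n)) := by
  by_cases m : Commute t v
  · rcases s.y2 v hv m with rfl | ⟨l, l1, -, rfl⟩
    · exact DS.self
    · exact s'.y1 l l1 ((h.comm_NN hk ck).mul_right (h.comm_NN hn cn)).symm
  · rw [← s.tt.set.cj_mul_left DS.self hv m]
    exact DS.cj DS.self (((h.comm _).mul_left (by rw [map_mul]; exact ck.mul_right cn)).symm)

end Sd

/-- The conjugates of the standard subgroups. -/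
def PQ (t : G) (φ : CE →* G) (p q : G) (ψ : Fi22 →* G) : Prop :=
  ∃ g, ∃ d x : CE, ∃ ψ0, Cf (d : K) x ∧ Sd t φ d x ψ0 ∧ p = cj g (φ d) ∧ q = cj g (φ (d * x)) ∧
    ψ = (MulAut.conj g).toMonoidHom.comp ψ0

/-- The conclusion of `BD.br`. -/
def Br (t : G) (φ : CE →* G) (p q : G) (D : Set G) (u v : G) : Prop :=
  ∃ ψ, PQ t φ u v ψ ∧ p ∈ ψ '' E22 ∧ q ∈ ψ '' E22 ∧ ∀ e ∈ D, Commute e u → Commute e v → e ∈ ψ '' E22

theorem PQ.conj (h : PQ t φ p q ψ) (g : G) :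
    PQ t φ (cj g p) (cj g q) ((MulAut.conj g).toMonoidHom.comp ψ) := by
  obtain ⟨g', d, x, φ0, c, s, rfl, rfl, rfl⟩ := h
  exact ⟨g * g', d, x, φ0, c, s, cj_cj _ _ _, cj_cj _ _ _, MonoidHom.ext fun e => cj_cj _ _ _⟩

theorem PQ.cls (h : PQ t φ p q ψ) (hv : v ∈ ψ '' E22) : ∃ g, v = g * t * g⁻¹ := by
  obtain ⟨g, d, x, ψ, -, s, -, -, rfl⟩ := h
  obtain ⟨k, -, e⟩ := s.eq.subset ((image_conj_iff g).1 hv)
  exact ⟨g * k, by rw [← cj_def, ← cj_cj, ← e, cj_cj_inv]⟩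

theorem Br.conj {D D' : Set G} (h : Br t φ p q D u v) (g : G)
    (hD : ∀ e ∈ D', cj g⁻¹ e ∈ D) : Br t φ (cj g p) (cj g q) D' (cj g u) (cj g v) := by
  obtain ⟨ψ, h1, h2, h3, h4⟩ := h
  refine ⟨_, h1.conj g, ?_, ?_, fun e he c1 c2 => ?_⟩ <;> rw [image_conj_iff]
  exacts [(cj_inv_cj g p).symm ▸ h2, (cj_inv_cj g q).symm ▸ h3,
    h4 _ (hD e he) (commute_cj_right.1 c1) (commute_cj_right.1 c2)]

variable [Finite G]

theorem Sd.br (s : Sd t φ d x ψ) (h : St t φ) (c : Cf (d : K) x) (e : g * t * g⁻¹ = φ yE) {p r : Fi22}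
    (hp : p ∈ E22) (hr : r ∈ E22) (n : ¬ Commute p r) :
    Br t φ (φ d) (φ (d * x)) (ψ '' E22) (ψ p) (ψ r) := by
  obtain ⟨a, ha, b, hb, ea, eb⟩ := s.exists_ab h c
  obtain ⟨a', ha', b', hb', c1, c2, c3, c4⟩ := exists_pair g22_E22.tm hp hr n
  obtain ⟨g, -, hg⟩ := (g22_E22.tm.tr.mono (by decide : 2 ≤ 3)).conj g22_E22.fis.isTT
    (cl_pair ha' hb') (cl_pair ha hb) rfl rfl
  simp only [List.map_cons, List.map_nil, List.cons.injEq, and_true] at hg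
  have cm := g22_E22.fis.cls.cj_mem
  have n' : ¬ Commute (ψ (cj g p)) (ψ (cj g r)) := fun k => n (commute_cj.1 (k.of_map s.inj))
  have k1 : ∀ {w}, Commute a' w → Commute t (ψ (cj g w)) := fun k => by
    simpa only [hg.1, ea] using ((commute_cj (g := g)).2 k).map ψ
  have k2 : ∀ {w}, Commute b' w → Commute (φ yE) (ψ (cj g w)) := fun k => by
    simpa only [hg.2, eb] using ((commute_cj (g := g)).2 k).map ψ
  obtain ⟨u, u1, u2, eu⟩ := (s.y2 _ (s.mem (cm g p hp)) (k1 c1)).resolve_left fun q => n' (q ▸ k1 c2)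
  obtain ⟨v, v1, v2, ev⟩ := (s.y2 _ (s.mem (cm g r hr)) (k1 c2)).resolve_left fun q => n' (q ▸ (k1 c1).symm)
  have c' : Cf (u : K) (u * v : CE) := c.braid (c.mem_D3 u1 (commute_coe.2 u2)) (c.mem_D3 v1 (commute_coe.2 v2))
    (fun k => n' (by simpa only [eu, ev] using (commute_coe.1 k).map φ)) u.2 v.2
    (commute_coe.2 (h.comm_NN u1 (eu ▸ k2 c3))) (commute_coe.2 (h.comm_NN v1 (ev ▸ k2 c4)))
  obtain ⟨χ, s'⟩ := h.exists_sd e c'
  have du := c.self_comm u1 u2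
  have dv := c.self_comm v1 v2
  have k3 : Br t φ (φ d) (φ (d * x)) (ψ '' E22) (φ u) (φ v) :=
    ⟨χ, ⟨1, u, u * v, χ, c', s', (cj_one _).symm, by
        rw [cj_one, map_mul, map_mul, ← mul_assoc, h.yy u1, one_mul], MonoidHom.ext fun e => (cj_one _).symm⟩,
      s'.eq ▸ s'.y1 _ c.nn (du.mul_right dv).symm,
      s'.eq ▸ s'.y1 _ c.mul.nn ((du.mul_left u2).mul_right (dv.mul_left v2)).symm,
      fun e he c1 c2 => s'.eq ▸ s.mem_braid h u1 v1 s' (s.eq ▸ he) c1 c2⟩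
  have k4 := k3.conj (D' := ψ '' E22) (ψ g⁻¹) (by
    rintro _ ⟨e, he, rfl⟩
    exact ⟨_, cm g e he, by rw [map_cj, ψ.map_inv, inv_inv]⟩)
  have am := s.am h c
  simpa only [eu, ev, ← map_cj, cj_inv_cj, cj_of_commute (am.cp _).symm,
    cj_of_commute (am.cq _).symm] using k4

theorem St.bd (h : St t φ) (e : g * t * g⁻¹ = φ yE) : BD (φ zE) (PQ t φ) := by
  refine ⟨?_, ?_, ?_⟩
  · obtain ⟨d, x, c⟩ := exists_cf
    obtain ⟨ψ, s⟩ := h.exists_sd (d := ⟨d, NN_CE c.nn⟩) (x := ⟨x, c.x_CE⟩) e c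
    exact ⟨_, _, _, 1, _, _, ψ, c, s, rfl, rfl, rfl⟩
  · rintro _ _ _ ⟨g, d, x, φ, c, s, rfl, rfl, rfl⟩
    exact (s.am h c).conj g
  · rintro _ _ _ ⟨g, d, x, φ, c, s, rfl, rfl, rfl⟩ _ ⟨p, hp, rfl⟩ _ ⟨r, hr, rfl⟩ n
    exact (s.br h c e hp hr fun k => n (k.map _)).conj g fun e he => (image_conj_iff g).1 he

end Cfsg.Agent.B2E
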