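import Mathlib
import Cfsg.Agent.B2E.Sw

/-! A conjugate of `t` in a Baby Monster does not lift to an element of order four. -/

set_option autoImplicit false

namespace Cfsg.Agent.B2E

open Subgroup Cfsg.Agent.Spor Cfsg.Agent.Gr Cfsg.Agent.Gr.Rk Cfsg.Agent.Gr6B

attribute [local irreducible] t0 s0 y3 zz

variable {G : Type*} [Group G] {t u : G} {φ : CE →* G} {κ : CC →* G} {k q r : CC} {b x y : LL}
  {e f : ZMod 2} {m n : CE}

/-- The commutator of `q` and `k`. -/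
def wq (k q : CC) : CC := q * (k * q * k⁻¹)⁻¹

theorem wq_QK (hq : (q : K) ∈ QK) : (wq k q : K) ∈ QK :=
  mul_mem hq (inv_mem (conj_mem_QK (mem_CC.1 k.2).2 hq))

theorem wq_mul (hq : (q : K) ∈ QK) (hr : (r : K) ∈ QK) :
    wq k (q * r) = wq k r * wq k q ∨ wq k (q * r) = zc * (wq k r * wq k q) := by
  have e : wq k (q * r) = q * wq k r * q⁻¹ * wq k q := by simp only [wq]; group
  refine (GE.QK_conj hq (wq_QK (k := k) hr)).imp (fun l => ?_) fun l => ?_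
  · rw [e, show q * wq k r * q⁻¹ = wq k r from Subtype.ext l]
  · rw [e, show q * wq k r * q⁻¹ = wq k r * zc from Subtype.ext l, ← zc_comm, mul_assoc]

theorem zz_mul_DD {a : K} (h : a ∈ DD) (h' : a ∈ QK) : zz * a ∈ DD := by
  obtain ⟨e, c, rfl⟩ := mem_QK.1 h'
  rw [zz_mul_tq, tq_mem_DD_iff, ← tq_mem_DD_iff (e := e)]
  exact h

theorem mem_DD_of {a l : K} (l1 : l ∈ NN) (l2 : l ∈ QK)
    (p : (a = l ∨ a = t0 * l) ∨ a = zz * l ∨ a = t0 * (zz * l)) : a ∈ DD := by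
  have d2 := O1_mul_DD t0_mem l1.1
  rcases p with (rfl | rfl) | rfl | rfl
  exacts [l1.1.1, d2, zz_mul_DD l1.1.1 l2, by
    rw [← mul_assoc, ← zz_comm_t0, mul_assoc]; exact zz_mul_DD d2 (mul_mem t0_mem_QK l2)]

theorem zc_two : zc * zc = 1 := Subtype.ext zz_mul_self

/-- The involution `t` is the image of an element of order four. -/
structure Hf (t : G) (φ : CE →* G) (κ : CC →* G) (k : CC) (b : LL) : Prop where
  st : St t φ
  ker : ∀ c, κ c = 1 ↔ (c : K) = 1 ∨ (c : K) = t0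
  map : κ k = t
  sq : (k : K) * k = t0
  pol : ∀ c, pol c (csm (PP.sg k) c) = pol c b
  z : φ zE = κ zc
  cj : ∃ u, u * t * u⁻¹ = φ yE

/-- The members of `QK` whose commutator with `k` has order at most two. -/
def L0 (b : LL) : Subgroup CC := (QK ⊓ centralizer {tq 0 b}).subgroupOf CC

theorem card_L0 : 2 ^ 23 ≤ Nat.card (L0 b) := by
  have c1 := GenH.card_le_two (L := QK) le_rfl 0 b
  have c2 := GenH.card_le_two (L := QK ⊓ centralizer {tq 0 b}) inf_le_left 0 (cls v1)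
  have c3 : QK ⊓ centralizer {tq 0 b} ⊓ centralizer {tq 0 (cls v1)} ≤ (L0 b).map CC.subtype := fun q hq =>
    ⟨⟨q, mem_CC_of_QK hq.1.1 (t0_v1 ▸ (mem_cent.1 hq.2).symm)⟩, hq.1, rfl⟩
  have c4 := card_le_of_le c3
  rw [card_map_of_injective CC.subtype_injective] at c4
  rw [card_QK] at c1
  omega

namespace Hf

variable (h : Hf t φ κ k b)
include h

theorem act (q : CC) : t * κ q * t⁻¹ = κ (k * q * k⁻¹) := by rw [map_mul, map_mul, map_inv, h.map]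

theorem w_cj (q : CC) : κ (wq k q) * t = κ q * t * (κ q)⁻¹ := w_eq (h.act q)

theorem w_two (hq : q ∈ L0 b) : wq k q * wq k q = 1 := by
  obtain ⟨e, x, l⟩ := mem_QK.1 hq.1
  exact w_sq (m := k) l rfl ((h.pol x).trans (tq_comm_iff.1 (l ▸ mem_cent.1 hq.2)))

theorem w_com (hq : q ∈ L0 b) : Commute t (κ (wq k q)) := w_comm h.st.tt (h.act q) (h.w_two hq)

theorem w_cc (hq : q ∈ L0 b) (hr : r ∈ L0 b) : Commute (wq k q) (wq k r) :=
  Sub.comm_of_sq (h.w_two hq) (h.w_two hr) (by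
    have := h.w_two (mul_mem hr hq)
    rcases wq_mul (k := k) hr.1 hq.1 with w | w <;> rw [w] at this
    · exact this
    · rwa [mul_assoc, ← mul_assoc _ zc, ← zc_comm, mul_assoc, ← mul_assoc, zc_two, one_mul] at this)

theorem mem_mul (hq : q ∈ L0 b) (hr : r ∈ L0 b) :
    κ (wq k (q * r)) ∈ φ.range ↔ κ (wq k r) * κ (wq k q) ∈ φ.range := by
  rcases wq_mul (k := k) hq.1 hr.1 with l | l <;> rw [l, map_mul]
  rw [map_mul, mul_mem_cancel_left (MonoidHom.mem_range.2 ⟨_, h.z⟩)]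

/-- The members of `L0` whose commutator with `k` maps into the double cover. -/
def L1 : Subgroup CC where
  carrier := {q | q ∈ L0 b ∧ κ (wq k q) ∈ φ.range}
  one_mem' := ⟨one_mem _, by simp [wq]⟩
  mul_mem' := fun hq hr => ⟨mul_mem hq.1 hr.1, (h.mem_mul hq.1 hr.1).2 (mul_mem hr.2 hq.2)⟩
  inv_mem' := fun {q} hq => ⟨inv_mem hq.1, by
    have := (h.mem_mul hq.1 (inv_mem hq.1)).1 (by simp [wq])
    rwa [mul_mem_cancel_right hq.2] at this⟩

theorem card_L1 : 2 ^ 22 ≤ Nat.card (h.L1.map CC.subtype) := by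
  have c1 := PP.card_le_two_mul (N := L0 b) (H := h.L1) fun q hq r hr q1 r1 =>
    ⟨mul_mem hq hr, (h.mem_mul hq hr).2 (h.st.idx _ _ (h.w_com hr) (h.w_com hq)
      (fun l => r1 ⟨hr, l⟩) fun l => q1 ⟨hq, l⟩)⟩
  have c2 := card_le_of_le (inf_le_left : h.L1 ⊓ L0 b ≤ h.L1)
  have c3 := card_L0 (b := b)
  rw [card_map_of_injective CC.subtype_injective]
  omega

theorem w_ne1 (hq : (q : K) = tq e x) (hx : x ∉ Fv (PP.sg k)) :
    κ (wq k q) ≠ 1 ∧ κ (wq k q) ≠ κ zc := by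
  have l := w_ne (m := k) (q' := k * q * k⁻¹) hq rfl hx
  refine ⟨fun p => ?_, fun p => ?_⟩
  · rw [h.ker, ← tq_zero, t0_v1] at p
    exact p.elim (l 0).1 (l 0).2
  · rw [← mul_inv_eq_one, ← map_inv, ← map_mul, h.ker, coe_mul, coe_inv, mul_inv_eq_one,
      mul_inv_eq_iff_eq_mul] at p
    refine p.elim (fun p => (l (0 + 1)).1 ?_) fun p => (l (0 + 1)).2 ?_
    · rw [← zz_mul_tq, tq_zero, mul_one]; exact p
    · rw [← tq_mul_zz, ← t0_v1]; exact p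

theorem exists_n (hq : q ∈ h.L1) (q1 : (q : K) = tq e x) (hx : x ∉ Fv (PP.sg k)) :
    ∃ n : CE, ((n : K) ∈ NN ∧ (n : K) ∈ QK ∧ (n : K) ≠ y3) ∧ φ n = κ (wq k q) * t := by
  obtain ⟨l, hl⟩ := mul_mem hq.2 ⟨sE, h.st.map_s⟩
  have ne := h.w_ne1 q1 hx
  obtain ⟨n, n1, n2⟩ := (h.st.fus (hl.trans (h.w_cj q))).resolve_left fun p =>
    ne.1 (mul_eq_right.1 (hl.symm.trans p))
  obtain ⟨u, hu⟩ := h.cj
  have z2 : φ zE * t = φ yE := by rw [← h.st.tri, (h.st.comm yE).eq, mul_assoc, h.st.tt, mul_one]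
  have p : φ (zE * n) = κ q * u * t * (κ q * u)⁻¹ := by
    rw [← gcc, hu, map_mul, n2, hl, h.w_cj, ← z2, h.z, ← mul_assoc, ← mul_assoc, ← mul_assoc, ← map_mul,
      ← map_mul, zc_comm]
  refine ⟨n, ⟨n1, Sub.mem_QK_of_zz_mul n1.1.1 ?_, fun p => ne.2 ?_⟩, n2.trans hl⟩
  · rcases h.st.fus p with p | ⟨m, m1, p⟩
    · exact (h.st.eq_t.1 p).elim (fun p => (show zz * n = s0 from p) ▸ s0_mem.1)
        fun p => (show zz * n = t0 * s0 from p) ▸ O1_mul_DD t0_mem s0_mem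
    · exact (h.st.eq_iff.1 p.symm).elim (fun p => (show zz * n = m from p) ▸ m1.1.1)
        fun p => (show zz * n = t0 * m from p) ▸ O1_mul_DD t0_mem m1.1
  · rw [show n = yE from Subtype.ext p, hl, ← z2, mul_left_inj, h.z] at n2
    exact n2.symm

theorem pb_of (hq : q ∈ h.L1) (hr : r ∈ h.L1) (q1 : (q : K) = tq e x) (r1 : (r : K) = tq f y)
    (xy : x + y ∉ Fv (PP.sg k)) (hn : (n : K) ∈ NN) (m1 : φ m = κ (wq k q) * t)
    (n1 : φ n = κ (wq k r) * t) : Pb m n := by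
  have qr : ((r * q : CC) : K) = tq _ (y + x) := (congrArg₂ (· * ·) r1 q1).trans (tq_mul _ _ _ _)
  obtain ⟨l, ⟨l1, l2, -⟩, l3⟩ := h.exists_n (mul_mem hr hq) qr (add_comm x y ▸ xy)
  have ne := h.w_ne1 qr (add_comm x y ▸ xy)
  have cq := h.w_com hq.1
  have cr := h.w_com hr.1
  have w := wq_mul (k := k) hr.1.1 hq.1.1
  have c := h.w_cc hq.1 hr.1
  have mn : φ m * φ n = κ (wq k q * wq k r) := by
    rw [m1, n1, map_mul, mul_assoc, cr.left_comm, h.st.tt, mul_one]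
  have k0 : κ (wq k q * wq k r) ≠ 1 ∧ κ (wq k q * wq k r) ≠ κ zc := by
    rcases w with w | w <;> rw [w] at ne
    · exact ne
    · exact ⟨fun p => ne.2 (by rw [map_mul, p, mul_one]), fun p => ne.1 (by rw [map_mul, p, ← map_mul, zc_two, map_one])⟩
  refine ⟨TT.commute_coe.2 (h.st.comm_NN hn ?_), ?_, fun p => k0.1 ?_, fun p => k0.2 ?_⟩
  · rw [m1, n1]
    exact ((c.map κ).mul_right cq.symm).mul_left (cr.mul_right (Commute.refl t))
  · have p : φ (sE * m * n) = φ l ∨ φ (sE * m * n) = φ (zE * l) := by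
      rw [map_mul, map_mul, map_mul, h.st.map_s, mul_assoc, mn, l3, h.z, map_mul, (cq.mul_right cr).eq,
        ← mul_assoc, ← map_mul, ← map_mul]
      refine w.imp (fun w => by rw [w]) fun w => ?_
      rw [w, ← mul_assoc zc, zc_two, one_mul]
    exact mem_DD_of l1 l2 (p.imp h.st.eq_iff.1 h.st.eq_iff.1)
  · rw [← mn, show m = n from Subtype.ext p, h.st.yy hn]
  · have q : φ m = φ zE * φ n := (congrArg φ (Subtype.ext p)).trans (φ.map_mul zE n)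
    exact mn.symm.trans ((congrArg (· * φ n) q).trans (by rw [mul_assoc, h.st.yy hn, mul_one, h.z]))

theorem elim : False := by
  have hh : PP.sg k * PP.sg k = 1 := by rw [← map_mul, PP.sg_eq_one, coe_mul, h.sq]; exact t0_mem_QK
  have h1 : PP.sg k ≠ 1 := fun p => (CL.es2.sq _ (PP.sg_eq_one.1 p)).elim
    (fun p => DD_ne_one t0_mem (h.sq.symm.trans p)) fun p => zz_not_mem_DD (h.sq.symm.trans p ▸ t0_mem)
  obtain ⟨a, ⟨ea, p, hp, p1⟩, b, ⟨eb, q, hq, q1⟩, c, ⟨ec, r, hr, r1⟩, ⟨a1, b1, c1⟩, ⟨ab, ac, bc⟩, abc⟩ :=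
    lb2 hh h1 (PP.sg_v1 k) (by rintro _ ⟨q, hq, rfl⟩; exact hq.1.1) h.card_L1
  have s1 : ((p * q : CC) : K) = tq _ (a + b) := (congrArg₂ (· * ·) p1 q1).trans (tq_mul _ _ _ _)
  obtain ⟨na, ma, fa⟩ := h.exists_n hp p1 a1
  obtain ⟨nb, mb, fb⟩ := h.exists_n hq q1 b1
  obtain ⟨nc, mc, fc⟩ := h.exists_n hr r1 c1
  obtain ⟨nd, md, fd⟩ := h.exists_n (mul_mem hp hq) s1 ab
  exact pb ma mb mc md (h.pb_of hp hq p1 q1 ab mb.1 fa fb) (h.pb_of hp hr p1 r1 ac mc.1 fa fc)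
    (h.pb_of hp (mul_mem hp hq) p1 s1 (by rwa [← add_assoc, Gr.ll_add_self, zero_add]) md.1 fa fd)
    (h.pb_of hq hr q1 r1 bc mc.1 fb fc)
    (h.pb_of hq (mul_mem hp hq) q1 s1 (by rwa [add_comm a, ← add_assoc, Gr.ll_add_self, zero_add]) md.1 fb fd)
    (h.pb_of hr (mul_mem hp hq) r1 s1 (by rwa [add_comm]) md.1 fc fd)

end Hf

theorem St.no_four (h : St t φ) (ker : ∀ c, κ c = 1 ↔ (c : K) = 1 ∨ (c : K) = t0) (hk : κ k = t)
    (sq : (k : K) * k = t0) (c : 2 ^ 16 ≤ Nat.card ↥(QK ⊓ centralizer {(k : K)})) : False := by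
  obtain ⟨q, q1, q2⟩ := exists_sq_zz (T := QK ⊓ centralizer {(k : K)}) inf_le_left (by omega)
  have q3 : Commute q k := mem_cent.1 q1.2
  let Q : CC := ⟨q, mem_CC_of_QK q1.1 (sq ▸ (q3.mul_right q3).symm.eq)⟩
  have z := h.sq_mem (c := κ Q) (hk ▸ Commute.map (show Commute k Q from Subtype.ext q3.symm.eq) κ)
  rw [← map_mul, show Q * Q = zc from Subtype.ext q2] at z
  obtain ⟨b, b1, b2⟩ := exists_b (h := PP.sg k) (by rw [← map_mul, PP.sg_eq_one, coe_mul, sq]; exact t0_mem_QK)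
  obtain ⟨p, p1, p2⟩ := ActH.exists_pol_sep (a := cls v1) (b := b) (cls_ne_zero nm_v1)
    (fun e => b1 (e ▸ cls_mem_ShS nm_v1)) 1
  obtain ⟨f, hf⟩ := PP.sg_spec k 0 p
  have w1 : tq 0 p * (k * tq 0 p * (k : K)⁻¹)⁻¹ ∈ QK :=
    mul_mem (tq_QK 0 p) (inv_mem (conj_mem_QK (mem_CC.1 k.2).2 (tq_QK 0 p)))
  have w2 : tq 0 p * t0 * (tq 0 p)⁻¹ = zz * t0 := by rw [t0_v1, tq_conj, p1, zz_mul_tq]
  obtain ⟨g, w3⟩ : ∃ g, tq 0 p * (k * tq 0 p * (k : K)⁻¹)⁻¹ = tq g (p + csm (PP.sg k) p) :=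
    ⟨_, by rw [hf, ActH.tq_inv, tq_mul]⟩
  have w4 : tq 0 p * (k * tq 0 p * (k : K)⁻¹)⁻¹ * k = tq 0 p * k * (tq 0 p)⁻¹ := by group
  rw [w3] at w4
  have w5 : tq g (p + csm (PP.sg k) p) * tq g (p + csm (PP.sg k) p) = 1 := by
    rw [tq_mul_self, qL_add, qL_csm, z2_add_self, zero_add, b2, p2, tq_zero]
  have w6 : t0 * tq g (p + csm (PP.sg k) p) = tq g (p + csm (PP.sg k) p) * t0 := by
    rw [t0_v1, tq_comm_iff, pol_comm, pol_add_left, p1]
    nth_rw 1 [← PP.sg_v1 k]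
    rw [← csm_cls, pol_csm, p1, z2_add_self]
  generalize tq g (p + csm (PP.sg k) p) = w at w3 w4 w5 w6
  let W : CC := ⟨w, mem_CC_of_QK (w3 ▸ w1) w6⟩
  have w7 : W * k * W⁻¹ = k * zc := Subtype.ext (by
    have := congrArg (fun a => a * a) w4
    simp only [conj_mul, sq, w2] at this
    rw [← sq, ← mul_assoc, ← mul_assoc, mul_left_inj, (mem_CC.1 k.2).2] at this
    exact (congrArg (w * k * ·) (inv_eq_of_mul_eq_one_right w5)).trans this)
  have w8 : κ W * t * (κ W)⁻¹ = t * κ zc := by rw [← hk, ← map_inv, ← map_mul, ← map_mul, w7, map_mul]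
  obtain ⟨l, hl⟩ := mul_mem (MonoidHom.mem_range.2 ⟨sE, h.map_s⟩) z
  obtain ⟨n, n1, n2⟩ := (h.fus (hl.trans w8.symm)).resolve_left fun p =>
    ((ker zc).1 (mul_eq_left.1 (hl.symm.trans p))).elim zz_ne_one fun p =>
      zz_not_mem_DD ((show zz = t0 from p) ▸ t0_mem)
  obtain ⟨m, hm⟩ := h.exists_cj n1
  have h' := h.conj (φ m)⁻¹
  rw [(h.comm m).inv_right.symm.mul_inv_cancel] at h'
  have y : ((MulAut.conj (φ m)⁻¹).toMonoidHom.comp φ) yE = t * κ zc := by simp [← hm, n2, hl, mul_assoc]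
  exact Hf.elim ⟨h', ker, hk, sq, b2, by rw [← h'.tri, y, ← mul_assoc, h.tt, one_mul], _, w8.trans y.symm⟩

end Cfsg.Agent.B2E
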